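import Groth.Agent.WQ7.Galois
import Groth.Prelude.Def_Pi1
import Mathlib

/-! Local rings inside the function field of a normal Noetherian integral scheme. -/

set_option autoImplicit false
set_option linter.style.haveILetI false
set_option backward.isDefEq.respectTransparency false
set_option backward.isDefEq.respectTransparency.types false

universe u

open CategoryTheory AlgebraicGeometry TopologicalSpace IsLocalRing

namespace Groth.Agent.FibrePP

variable {X : Scheme.{u}} [IsIntegral X]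

/-- The local ring of a point as a subring of the function field. -/
noncomputable def O (x : X) : Subring X.functionField := (algebraMap (X.presheaf.stalk x) X.functionField).range

theorem algebraMap_specializes {ξ x : X} (h : ξ ⤳ x) (r : X.presheaf.stalk x) :
    algebraMap (X.presheaf.stalk ξ) X.functionField ((X.presheaf.stalkSpecializes h).hom r) =
      algebraMap (X.presheaf.stalk x) X.functionField r := by
  simp only [RingHom.algebraMap_toAlgebra]
  rw [← CommRingCat.comp_apply, TopCat.Presheaf.stalkSpecializes_comp]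

theorem O_mono {ξ x : X} (h : ξ ⤳ x) : O x ≤ O ξ := by
  rintro _ ⟨r, rfl⟩
  exact ⟨(X.presheaf.stalkSpecializes h).hom r, algebraMap_specializes h r⟩

theorem algebraMap_injective (x : X) : Function.Injective (algebraMap (X.presheaf.stalk x) X.functionField) :=
  IsFractionRing.injective _ _

theorem O_genericPoint (c : X.functionField) : c ∈ O (genericPoint X) := by
  refine ⟨(c : X.presheaf.stalk (genericPoint X)), ?_⟩
  simp only [RingHom.algebraMap_toAlgebra]
  rw [TopCat.Presheaf.stalkSpecializes_refl]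
  rfl

/-- A generisation with smaller local ring dimension only at the generic point. -/
theorem exists_height_le_one_of_notMem' [IsLocallyNoetherian X] {x : X}
    (hXn : IsDomain (X.presheaf.stalk x) ∧ IsIntegrallyClosed (X.presheaf.stalk x))
    {c : X.functionField} (hc : c ∉ O x) :
    ∃ ξ : X, ξ ⤳ x ∧ ringKrullDim (X.presheaf.stalk ξ) ≤ 1 ∧ c ∉ O ξ := by
  by_contra! h
  apply hc
  haveI := hXn.1
  haveI := hXn.2
  obtain ⟨a, b, hb, rfl⟩ := IsFractionRing.div_surjective (X.presheaf.stalk x) c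
  have hb0 : b ≠ 0 := nonZeroDivisors.ne_zero hb
  have hbK : algebraMap (X.presheaf.stalk x) X.functionField b ≠ 0 :=
    (map_ne_zero_iff _ (algebraMap_injective x)).2 hb0
  suffices hd : b ∣ a by
    obtain ⟨d, rfl⟩ := hd
    exact ⟨d, by rw [map_mul, mul_div_cancel_left₀ _ hbK]⟩
  obtain ⟨_, ⟨V, hV, rfl⟩, hxV, -⟩ := X.isBasis_affineOpens.exists_subset_of_mem_open
    (Set.mem_univ x) isOpen_univ
  refine WQ7.dvd_of_height_le_one hb0 fun q hq hq1 => ?_
  letI := TopCat.Presheaf.algebra_section_stalk X.presheaf (⟨x, hxV⟩ : (V : X.Opens))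
  haveI := hV.isLocalization_stalk ⟨x, hxV⟩
  let p : PrimeSpectrum Γ(X, V) := ⟨q.under Γ(X, V), inferInstance⟩
  let ξ : X := hV.fromSpec p
  have hξV : ξ ∈ (V : X.Opens) := hV.range_fromSpec.subset (Set.mem_range_self p)
  have hprime : (hV.primeIdealOf ⟨ξ, hξV⟩) = p :=
    hV.fromSpec.isOpenEmbedding.injective (hV.fromSpec_primeIdealOf ⟨ξ, hξV⟩)
  have hle : p.asIdeal ≤ (hV.primeIdealOf ⟨x, hxV⟩).asIdeal := by
    rw [show (hV.primeIdealOf ⟨x, hxV⟩).asIdeal = (maximalIdeal (X.presheaf.stalk x)).under Γ(X, V) from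
      (IsLocalization.AtPrime.under_maximalIdeal (X.presheaf.stalk x) (hV.primeIdealOf ⟨x, hxV⟩).asIdeal).symm]
    exact Ideal.comap_mono (le_maximalIdeal hq.ne_top)
  have hsp : ξ ⤳ x := by
    have h1 : p ⤳ hV.primeIdealOf ⟨x, hxV⟩ := (PrimeSpectrum.le_iff_specializes _ _).1 hle
    have h2 := h1.map hV.fromSpec.continuous
    rwa [hV.fromSpec_primeIdealOf] at h2
  letI := TopCat.Presheaf.algebra_section_stalk X.presheaf (⟨ξ, hξV⟩ : (V : X.Opens))
  haveI := hV.isLocalization_stalk ⟨ξ, hξV⟩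
  have hdim : ringKrullDim (X.presheaf.stalk ξ) ≤ 1 := by
    rw [IsLocalization.AtPrime.ringKrullDim_eq_height (hV.primeIdealOf ⟨ξ, hξV⟩).asIdeal (X.presheaf.stalk ξ),
      hprime, show p.asIdeal.height = q.height from
        IsLocalization.height_under (hV.primeIdealOf ⟨x, hxV⟩).asIdeal.primeCompl q]
    exact_mod_cast hq1
  obtain ⟨d, hd⟩ := h ξ hsp hdim
  obtain ⟨r, ⟨s, hs⟩, rfl⟩ := IsLocalization.exists_mk'_eq (hV.primeIdealOf ⟨ξ, hξV⟩).asIdeal.primeCompl d
  have hs' : algebraMap Γ(X, V) (X.presheaf.stalk x) s ∉ q := fun hmem => hs (by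
    rw [hprime]; exact hmem)
  refine ⟨_, hs', algebraMap Γ(X, V) (X.presheaf.stalk x) r, algebraMap_injective x ?_⟩
  have hspec : ∀ t : Γ(X, V), algebraMap (X.presheaf.stalk x) X.functionField (algebraMap Γ(X, V) _ t) =
      algebraMap (X.presheaf.stalk ξ) X.functionField (algebraMap Γ(X, V) _ t) := fun t => by
    rw [← algebraMap_specializes hsp]
    exact congrArg _ (X.presheaf.germ_stalkSpecializes_apply hxV hsp t)
  have h1 := congrArg (algebraMap (X.presheaf.stalk ξ) X.functionField)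
    (IsLocalization.mk'_spec' (X.presheaf.stalk ξ) r
      (⟨s, hs⟩ : (hV.primeIdealOf ⟨ξ, hξV⟩).asIdeal.primeCompl))
  rw [map_mul, hd] at h1
  rw [map_mul, map_mul, hspec, hspec, ← h1]
  field_simp

theorem exists_height_le_one_of_notMem [IsLocallyNoetherian X] (hXn : Pi1.IsNormalScheme X) {x : X}
    {c : X.functionField} (hc : c ∉ O x) :
    ∃ ξ : X, ξ ⤳ x ∧ ringKrullDim (X.presheaf.stalk ξ) ≤ 1 ∧ c ∉ O ξ :=
  exists_height_le_one_of_notMem' (hXn x) hc

theorem eq_genericPoint_of_dim_zero {ξ : X} (h : ringKrullDim (X.presheaf.stalk ξ) ≤ 0) : ξ = genericPoint X := by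
  obtain ⟨_, ⟨V, hV, rfl⟩, hxV, -⟩ := X.isBasis_affineOpens.exists_subset_of_mem_open
    (Set.mem_univ ξ) isOpen_univ
  haveI : Nonempty (V : X.Opens) := ⟨⟨ξ, hxV⟩⟩
  letI := TopCat.Presheaf.algebra_section_stalk X.presheaf (⟨ξ, hxV⟩ : (V : X.Opens))
  haveI := hV.isLocalization_stalk ⟨ξ, hxV⟩
  rw [IsLocalization.AtPrime.ringKrullDim_eq_height (hV.primeIdealOf ⟨ξ, hxV⟩).asIdeal (X.presheaf.stalk ξ)] at h
  have h0 : (hV.primeIdealOf ⟨ξ, hxV⟩).asIdeal.height = 0 := nonpos_iff_eq_zero.1 (by exact_mod_cast h)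
  rw [Ideal.height_eq_zero_iff_eq_bot] at h0
  have hle : hV.primeIdealOf ⟨ξ, hxV⟩ ≤ hV.primeIdealOf ⟨genericPoint X,
      ((genericPoint_spec X).mem_open_set_iff (V : X.Opens).2).mpr ⟨ξ, trivial, hxV⟩⟩ := by
    show (hV.primeIdealOf ⟨ξ, hxV⟩).asIdeal ≤ _
    rw [h0]; exact bot_le
  have h1 := ((PrimeSpectrum.le_iff_specializes _ _).1 hle).map hV.fromSpec.continuous
  rw [hV.fromSpec_primeIdealOf, hV.fromSpec_primeIdealOf] at h1
  exact Inseparable.eq (h1.antisymm (genericPoint_specializes ξ))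

/-- A strict generisation drops the dimension. -/
theorem eq_or_eq_genericPoint {ξ ζ : X} (h : ζ ⤳ ξ) (hξ : ringKrullDim (X.presheaf.stalk ξ) ≤ 1) :
    ζ = ξ ∨ ζ = genericPoint X := by
  refine or_iff_not_imp_left.2 fun hne => eq_genericPoint_of_dim_zero ?_
  obtain ⟨_, ⟨V, hV, rfl⟩, hxV, -⟩ := X.isBasis_affineOpens.exists_subset_of_mem_open
    (Set.mem_univ ξ) isOpen_univ
  have hζV : ζ ∈ (V : X.Opens) := h.mem_open (V : X.Opens).2 hxV
  letI := TopCat.Presheaf.algebra_section_stalk X.presheaf (⟨ξ, hxV⟩ : (V : X.Opens))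
  haveI := hV.isLocalization_stalk ⟨ξ, hxV⟩
  rw [IsLocalization.AtPrime.ringKrullDim_eq_height (hV.primeIdealOf ⟨ξ, hxV⟩).asIdeal (X.presheaf.stalk ξ)] at hξ
  letI := TopCat.Presheaf.algebra_section_stalk X.presheaf (⟨ζ, hζV⟩ : (V : X.Opens))
  haveI := hV.isLocalization_stalk ⟨ζ, hζV⟩
  rw [IsLocalization.AtPrime.ringKrullDim_eq_height (hV.primeIdealOf ⟨ζ, hζV⟩).asIdeal (X.presheaf.stalk ζ)]
  have h1 : hV.primeIdealOf ⟨ζ, hζV⟩ ≤ hV.primeIdealOf ⟨ξ, hxV⟩ := by
    refine (PrimeSpectrum.le_iff_specializes _ _).2 (hV.fromSpec.isOpenEmbedding.isInducing.specializes_iff.1 ?_)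
    rwa [hV.fromSpec_primeIdealOf, hV.fromSpec_primeIdealOf]
  have hlt : hV.primeIdealOf ⟨ζ, hζV⟩ < hV.primeIdealOf ⟨ξ, hxV⟩ := lt_of_le_of_ne h1 fun e => hne (by
    have := congrArg hV.fromSpec e
    rwa [hV.fromSpec_primeIdealOf, hV.fromSpec_primeIdealOf] at this)
  haveI : (hV.primeIdealOf ⟨ξ, hxV⟩).asIdeal.FiniteHeight :=
    ⟨Or.inr (ne_top_of_le_ne_top (by simp) (show (hV.primeIdealOf ⟨ξ, hxV⟩).asIdeal.height ≤ 1 by exact_mod_cast hξ))⟩
  haveI := Ideal.finiteHeight_of_le (show (hV.primeIdealOf ⟨ζ, hζV⟩).asIdeal ≤ _ from h1)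
    (hV.primeIdealOf ⟨ξ, hxV⟩).isPrime.ne_top
  have := Ideal.height_strict_mono_of_isPrime (J := (hV.primeIdealOf ⟨ξ, hxV⟩).asIdeal)
    (show (hV.primeIdealOf ⟨ζ, hζV⟩).asIdeal < _ from hlt)
  have h2 : (hV.primeIdealOf ⟨ξ, hxV⟩).asIdeal.height ≤ 1 := by exact_mod_cast hξ
  have h3 : (hV.primeIdealOf ⟨ζ, hζV⟩).asIdeal.height = 0 := Order.lt_one_iff.1 (lt_of_lt_of_le this h2)
  rw [h3]
  exact le_rfl

/-- The points of height at most one of a proper closed subset are finite in number. -/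
theorem finite_heightOne [IsLocallyNoetherian X] [CompactSpace X] {Z : Set X} (hZ : IsClosed Z)
    (hgen : genericPoint X ∉ Z) : {ξ : X | ξ ∈ Z ∧ ringKrullDim (X.presheaf.stalk ξ) ≤ 1}.Finite := by
  haveI : IsNoetherian X := {}
  haveI : QuasiSober Z := hZ.isClosedEmbedding_subtypeVal.quasiSober
  let S : Set Z := {ξ | ringKrullDim (X.presheaf.stalk (ξ : X)) ≤ 1}
  have hS : S.Finite := by
    refine Set.Finite.of_finite_image (f := fun ξ : Z => closure ({ξ} : Set Z)) ?_ ?_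
    · refine TopologicalSpace.NoetherianSpace.finite_irreducibleComponents.subset ?_
      rintro _ ⟨ξ, hξ, rfl⟩
      refine ⟨isIrreducible_singleton.closure, fun W hW hle => ?_⟩
      obtain ⟨ζ, hζ⟩ := QuasiSober.sober hW.closure isClosed_closure
      have h1 : ζ ⤳ ξ := hζ.specializes (subset_closure (hle (subset_closure rfl)))
      rcases eq_or_eq_genericPoint (h1.map continuous_subtype_val) hξ with h2 | h2
      · rw [← Subtype.ext h2]
        exact subset_closure.trans hζ.symm.subset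
      · exact absurd (h2 ▸ ζ.2) hgen
    · exact fun ξ _ η _ he => Inseparable.eq (inseparable_iff_closure_eq.2 he)
  refine (hS.image Subtype.val).subset ?_
  rintro ξ ⟨h1, h2⟩
  exact ⟨⟨ξ, h1⟩, h2, rfl⟩

/-- Orders of vanishing at a point of height one. -/
theorem exists_zpow {ξ : X} [IsDiscreteValuationRing (X.presheaf.stalk ξ)] {π : X.presheaf.stalk ξ}
    (hπ : Irreducible π) {c : X.functionField} (hc : c ≠ 0) :
    ∃ (w : (X.presheaf.stalk ξ)ˣ) (z : ℤ),
      c = algebraMap _ X.functionField (w : X.presheaf.stalk ξ) * algebraMap _ X.functionField π ^ z := by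
  obtain ⟨a, b, hb, rfl⟩ := IsFractionRing.div_surjective (X.presheaf.stalk ξ) c
  have hb0 : b ≠ 0 := nonZeroDivisors.ne_zero hb
  have ha0 : a ≠ 0 := fun h => hc (by rw [h, map_zero, zero_div])
  obtain ⟨m, v, rfl⟩ := IsDiscreteValuationRing.eq_unit_mul_pow_irreducible ha0 hπ
  obtain ⟨n, w, rfl⟩ := IsDiscreteValuationRing.eq_unit_mul_pow_irreducible hb0 hπ
  have hp : algebraMap _ X.functionField π ≠ 0 := (map_ne_zero_iff _ (algebraMap_injective ξ)).2 hπ.ne_zero
  have hw : algebraMap _ X.functionField (w : X.presheaf.stalk ξ) ≠ 0 :=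
    (map_ne_zero_iff _ (algebraMap_injective ξ)).2 w.ne_zero
  refine ⟨v * w⁻¹, (m : ℤ) - n, ?_⟩
  rw [map_mul, map_mul, map_pow, map_pow, Units.val_mul, map_mul, zpow_sub₀ hp, zpow_natCast, zpow_natCast]
  have hinv : algebraMap _ X.functionField ((w⁻¹ : (X.presheaf.stalk ξ)ˣ) : X.presheaf.stalk ξ) =
      (algebraMap _ X.functionField (w : X.presheaf.stalk ξ))⁻¹ := by
    refine eq_inv_of_mul_eq_one_left ?_
    rw [← map_mul, Units.inv_mul, map_one]
  rw [hinv]
  field_simp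

theorem mem_O_of_nonneg {ξ : X} {π : X.presheaf.stalk ξ} (w : (X.presheaf.stalk ξ)ˣ) {z : ℤ} (hz : 0 ≤ z) :
    algebraMap _ X.functionField (w : X.presheaf.stalk ξ) * algebraMap _ X.functionField π ^ z ∈ O ξ := by
  obtain ⟨n, rfl⟩ : ∃ n : ℕ, (n : ℤ) = z := ⟨_, Int.toNat_of_nonneg hz⟩
  exact ⟨w * π ^ n, by rw [map_mul, map_pow, zpow_natCast]⟩

/-- The elements of the function field that come from the maximal ideal. -/
def InMax (x : X) (c : X.functionField) : Prop :=
  ∃ r ∈ maximalIdeal (X.presheaf.stalk x), algebraMap _ X.functionField r = c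

theorem inMax_of_pos {ξ : X} {π : X.presheaf.stalk ξ} (hπ : π ∈ maximalIdeal (X.presheaf.stalk ξ))
    (w : X.presheaf.stalk ξ) {z : ℤ} (hz : 0 < z) :
    InMax ξ (algebraMap _ X.functionField w * algebraMap _ X.functionField π ^ z) := by
  obtain ⟨n, rfl⟩ : ∃ n : ℕ, (n : ℤ) = z := ⟨_, Int.toNat_of_nonneg hz.le⟩
  refine ⟨w * π ^ n, Ideal.mul_mem_left _ _ (Ideal.pow_mem_of_mem _ hπ n (by omega)), ?_⟩
  rw [map_mul, map_pow, zpow_natCast]

theorem InMax.of_specializes {ξ x : X} (h : ξ ⤳ x) {c : X.functionField} (hξ : InMax ξ c) {r : X.presheaf.stalk x}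
    (hr : algebraMap _ X.functionField r = c) : r ∈ maximalIdeal (X.presheaf.stalk x) := by
  obtain ⟨s, hs, hsc⟩ := hξ
  refine fun hu => hs ?_
  have : (X.presheaf.stalkSpecializes h).hom r = s :=
    algebraMap_injective ξ (by rw [algebraMap_specializes, hr, hsc])
  exact this ▸ hu.map _

end Groth.Agent.FibrePP
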