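import Groth.Agent.FibrePP.Basic
import Mathlib

/-! Points over a local base: the structure maps of stalks, and valuation rings of residue fields. -/

set_option autoImplicit false
set_option linter.style.haveILetI false
set_option backward.isDefEq.respectTransparency false
set_option backward.isDefEq.respectTransparency.types false

universe u

open CategoryTheory AlgebraicGeometry TopologicalSpace IsLocalRing Polynomial

noncomputable section

namespace Groth.Agent.FibrePP

variable {A : Type u} [CommRing A] {X : Scheme.{u}} (f : X ⟶ Spec (CommRingCat.of A))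

/-- The structure map of a stalk. -/
def ι (x : X) : A →+* X.presheaf.stalk x := (Spec.preimage (X.fromSpecStalk x ≫ f)).hom

theorem specMap_ι (x : X) : Spec.map (CommRingCat.ofHom (ι f x)) = X.fromSpecStalk x ≫ f :=
  Spec.map_preimage _

theorem ι_specializes {ξ x : X} (h : ξ ⤳ x) (a : A) :
    (X.presheaf.stalkSpecializes h).hom (ι f x a) = ι f ξ a := by
  have h1 : CommRingCat.ofHom (ι f x) ≫ X.presheaf.stalkSpecializes h = CommRingCat.ofHom (ι f ξ) := by
    apply Spec.map_injective
    rw [Spec.map_comp, specMap_ι, specMap_ι, ← Category.assoc, Scheme.SpecMap_stalkSpecializes_fromSpecStalk]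
  exact congrArg (fun k => k.hom a) h1

theorem mem_point_iff (x : X) (a : A) :
    a ∈ PrimeSpectrum.asIdeal (f x : PrimeSpectrum A) ↔ ι f x a ∈ maximalIdeal (X.presheaf.stalk x) := by
  have h1 : (f x : PrimeSpectrum A) = PrimeSpectrum.comap (ι f x) (closedPoint (X.presheaf.stalk x)) := by
    have h2 : f (X.fromSpecStalk x (closedPoint (X.presheaf.stalk x))) =
        Spec.map (CommRingCat.ofHom (ι f x)) (closedPoint (X.presheaf.stalk x)) := by
      rw [specMap_ι, Scheme.Hom.comp_apply]
      rfl
    rw [Scheme.fromSpecStalk_closedPoint] at h2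
    exact h2
  rw [h1]
  rfl

/-- The image of the base ring in a residue field. -/
def resMap (x : X) : A →+* X.residueField x := (X.residue x).hom.comp (ι f x)

theorem resMap_eq_zero_iff (x : X) (a : A) :
    resMap f x a = 0 ↔ a ∈ PrimeSpectrum.asIdeal (f x : PrimeSpectrum A) := by
  rw [mem_point_iff]
  exact IsLocalRing.residue_eq_zero_iff _

theorem specMap_resMap (x : X) :
    Spec.map (CommRingCat.ofHom (resMap f x)) = X.fromSpecResidueField x ≫ f := by
  rw [Scheme.fromSpecResidueField, Category.assoc, ← specMap_ι, ← Spec.map_comp]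
  rfl

/-- Every valuation ring of a residue field over the base is dominated by a point. -/
theorem exists_center [IsProper f] (ξ : X) (V : ValuationSubring (X.residueField ξ))
    (hV : ∀ a, resMap f ξ a ∈ V) :
    ∃ (x : X) (h : ξ ⤳ x), ∀ r, (X.residue ξ).hom ((X.presheaf.stalkSpecializes h).hom r) ∈ V := by
  have hE : ValuativeCriterion.Existence f := by
    have h : (ValuativeCriterion.Existence ⊓ @QuasiCompact) f := by
      rw [← UniversallyClosed.eq_valuativeCriterion]; infer_instance
    exact h.1
  let i₁ : Spec (CommRingCat.of (X.residueField ξ)) ⟶ X := X.fromSpecResidueField ξ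
  let i₂ : Spec (CommRingCat.of V) ⟶ Spec (CommRingCat.of A) :=
    Spec.map (CommRingCat.ofHom ((resMap f ξ).codRestrict V.toSubring hV))
  have w : i₁ ≫ f = Spec.map (CommRingCat.ofHom (algebraMap V (X.residueField ξ))) ≫ i₂ := by
    rw [← Spec.map_comp]
    exact (specMap_resMap f ξ).symm.trans (by congr 1)
  obtain ⟨l, hl₁, -⟩ := (hE { R := V, K := X.residueField ξ, i₁ := i₁, i₂ := i₂, commSq := ⟨w⟩ }).exists_lift
  dsimp only at hl₁
  have hsp : ξ ⤳ l (closedPoint V) := by
    have h1 : l (Spec.map (CommRingCat.ofHom (algebraMap V (X.residueField ξ)))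
        (closedPoint (X.residueField ξ))) = ξ := by
      rw [← Scheme.Hom.comp_apply, hl₁]
      exact Scheme.fromSpecResidueField_apply ξ _
    have h2 := (specializes_closedPoint (R := V) (Spec.map (CommRingCat.ofHom (algebraMap V (X.residueField ξ)))
        (closedPoint (X.residueField ξ)))).map l.continuous
    rwa [h1] at h2
  refine ⟨l (closedPoint V), hsp, fun r => ?_⟩
  have key : Scheme.stalkClosedPointTo l ≫ CommRingCat.ofHom (algebraMap V (X.residueField ξ)) =
      X.presheaf.stalkSpecializes hsp ≫ X.residue ξ := by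
    apply Spec.map_injective
    rw [← cancel_mono (X.fromSpecStalk (l (closedPoint V)))]
    rw [Spec.map_comp, Spec.map_comp, Category.assoc, Category.assoc,
      Scheme.Spec_stalkClosedPointTo_fromSpecStalk, Scheme.SpecMap_stalkSpecializes_fromSpecStalk]
    exact hl₁
  have h3 := congrArg (fun k => k.hom r) key
  refine (show (X.residue ξ).hom ((X.presheaf.stalkSpecializes hsp).hom r) = _ from h3.symm) ▸ ?_
  exact ((Scheme.stalkClosedPointTo l).hom r).2

/-- An element of every valuation ring over the base is integral over it. -/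
theorem exists_monic_of_forall_valuationSubring {k : Type u} [Field k] (j : A →+* k) {g : k}
    (h : ∀ V : ValuationSubring k, (∀ a, j a ∈ V) → g ∈ V) :
    ∃ p : A[X], p.Monic ∧ p.eval₂ j g = 0 := by
  have h1 : g ∈ (⨅ V : {V : ValuationSubring k // Set.range j ⊆ V.toSubring}, V.1.toSubring) := by
    rw [Subring.mem_iInf]
    exact fun V => h V.1 fun a => V.2 ⟨a, rfl⟩
  rw [iInf_valuationSubring_superset] at h1
  obtain ⟨p, hp, hpg⟩ := (mem_integralClosure_iff _ _).1 h1
  have hcl : Subring.closure (Set.range j) ≤ j.range := Subring.closure_le.2 le_rfl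
  obtain ⟨q, hq, -, hqm⟩ := Polynomial.lifts_and_degree_eq_and_monic
    (p := p.map (Subring.closure (Set.range j)).subtype) (f := j)
    ((Polynomial.lifts_iff_coeff_lifts _).2 fun n => by
      rw [Polynomial.coeff_map]
      exact hcl (p.coeff n).2) (hp.map _)
  refine ⟨q, hqm, ?_⟩
  rw [← Polynomial.eval_map, hq, Polynomial.eval_map]
  exact hpg

/-- A nonzero root gives an equation with unit constant term. -/
theorem exists_unit_const [IsLocalRing A] {k : Type u} [Field k] (j : A →+* k)
    (hj : ∀ a ∈ maximalIdeal A, j a = 0) {g : k} (hg : g ≠ 0) :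
    ∀ (n : ℕ) (p : A[X]), IsUnit (p.coeff n) → p.eval₂ j g = 0 →
      ∃ (c : A) (q : A[X]), IsUnit c ∧ j c + g * q.eval₂ j g = 0 := by
  intro n
  induction n with
  | zero =>
    intro p hp hpg
    refine ⟨p.coeff 0, p.divX, hp, ?_⟩
    rw [← X_mul_divX_add p, eval₂_add, eval₂_mul, eval₂_X, eval₂_C] at hpg
    rw [add_comm]; exact hpg
  | succ n ih =>
    intro p hp hpg
    by_cases h0 : IsUnit (p.coeff 0)
    · refine ⟨p.coeff 0, p.divX, h0, ?_⟩
      rw [← X_mul_divX_add p, eval₂_add, eval₂_mul, eval₂_X, eval₂_C] at hpg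
      rw [add_comm]; exact hpg
    · refine ih p.divX (by rwa [coeff_divX]) ?_
      rw [← X_mul_divX_add p, eval₂_add, eval₂_mul, eval₂_X, eval₂_C,
        hj _ ((IsLocalRing.mem_maximalIdeal _).2 h0), add_zero] at hpg
      exact (mul_eq_zero.1 hpg).resolve_left hg

variable [IsIntegral X]

/-- The image of the base ring in the function field. -/
def toK : A →+* X.functionField := ι f (genericPoint X)

theorem algebraMap_ι (x : X) (a : A) :
    algebraMap (X.presheaf.stalk x) X.functionField (ι f x a) = toK f a := by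
  simp only [RingHom.algebraMap_toAlgebra]
  exact ι_specializes f (genericPoint_specializes x) a

theorem toK_mem (x : X) (a : A) : toK f a ∈ O x := ⟨_, algebraMap_ι f x a⟩

theorem inMax_toK_iff (x : X) (a : A) :
    InMax x (toK f a) ↔ a ∈ PrimeSpectrum.asIdeal (f x : PrimeSpectrum A) := by
  rw [mem_point_iff]
  refine ⟨?_, fun h => ⟨_, h, algebraMap_ι f x a⟩⟩
  rintro ⟨r, hr, hra⟩
  rwa [← algebraMap_injective x (hra.trans (algebraMap_ι f x a).symm)]

theorem toK_ne_zero [IsDomain A] (hgen : (f (genericPoint X) : PrimeSpectrum A).asIdeal = ⊥) {a : A} (ha : a ≠ 0) :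
    toK f a ≠ 0 := by
  refine fun h => ha ?_
  have h1 : a ∈ (f (genericPoint X) : PrimeSpectrum A).asIdeal := by
    rw [← inMax_toK_iff]
    exact ⟨0, Ideal.zero_mem _, by rw [h, map_zero]⟩
  rwa [hgen, Ideal.mem_bot] at h1

end Groth.Agent.FibrePP
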