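import Groth.Agent.InvX.Pullback
import Groth.Agent.DivX.MeroMod
import Mathlib

/-! Invertible modules pushed forward along a morphism with `b_* O = O`. -/

set_option autoImplicit false
set_option linter.style.haveILetI false
set_option backward.isDefEq.respectTransparency false
set_option backward.isDefEq.respectTransparency.types false

universe u

open CategoryTheory AlgebraicGeometry TopologicalSpace

noncomputable section

namespace Groth.Agent.FibrePP

variable {X Y : Scheme.{u}} (b : X ⟶ Y)

/-- A frame over a preimage is a frame of the pushforward. -/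
theorem isFrame_push (h0 : ∀ W : Y.Opens, Function.Bijective (b.app W)) {F : X.Modules} {V : Y.Opens}
    {s : Γ(F, b ⁻¹ᵁ V)} (hs : InvX.IsFrame s) :
    InvX.IsFrame (M := (Scheme.Modules.pushforward b).obj F) (U := V) s := fun V' h => by
  have key : (fun r : Γ(Y, V') => r • AModX.res ((Scheme.Modules.pushforward b).obj F) h s) =
      (fun r' : Γ(X, b ⁻¹ᵁ V') => r' • AModX.res F (b.preimage_mono h) s) ∘ (b.app V') := funext fun r => rfl
  rw [key]
  exact (hs (b ⁻¹ᵁ V') (b.preimage_mono h)).comp (h0 V')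

/-- The unit is an isomorphism on invertible modules. -/
theorem isIso_unit (h0 : ∀ W : Y.Opens, Function.Bijective (b.app W)) {M : Y.Modules} (hM : PicF.IsInvertible M) :
    IsIso ((Scheme.Modules.pullbackPushforwardAdjunction b).unit.app M) := by
  refine DivX.isIso_of_frames _ fun x => ?_
  obtain ⟨U, hU, e, he⟩ := InvX.exists_frame hM x
  exact ⟨U, hU, e, he, isFrame_push b h0 (InvX.isFrame_pullElt b he)⟩

/-- Inverse image is injective on invertible modules. -/
theorem nonempty_iso_of_pullback (h0 : ∀ W : Y.Opens, Function.Bijective (b.app W)) {M N : Y.Modules}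
    (hM : PicF.IsInvertible M) (hN : PicF.IsInvertible N)
    (e : (Scheme.Modules.pullback b).obj M ≅ (Scheme.Modules.pullback b).obj N) : Nonempty (M ≅ N) :=
  haveI := isIso_unit b h0 hM
  haveI := isIso_unit b h0 hN
  ⟨asIso ((Scheme.Modules.pullbackPushforwardAdjunction b).unit.app M) ≪≫
    (Scheme.Modules.pushforward b).mapIso e ≪≫
    (asIso ((Scheme.Modules.pullbackPushforwardAdjunction b).unit.app N)).symm⟩

/-- A module with frames over preimages of a cover descends. -/
theorem exists_descent (h0 : ∀ W : Y.Opens, Function.Bijective (b.app W)) {L : X.Modules}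
    (h : ∀ w : Y, ∃ (V : Y.Opens) (_ : w ∈ V) (s : Γ(L, b ⁻¹ᵁ V)), InvX.IsFrame s) :
    ∃ M : Y.Modules, PicF.IsInvertible M ∧ Nonempty ((Scheme.Modules.pullback b).obj M ≅ L) := by
  refine ⟨(Scheme.Modules.pushforward b).obj L, fun w => ?_, ?_⟩
  · obtain ⟨V, hw, s, hs⟩ := h w
    exact ⟨V, hw, InvX.nonempty_iso_of_isFrame (isFrame_push b h0 hs)⟩
  · haveI : IsIso ((Scheme.Modules.pullbackPushforwardAdjunction b).counit.app L) := by
      refine DivX.isIso_of_frames _ fun x => ?_
      obtain ⟨V, hw, s, hs⟩ := h (b x)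
      refine ⟨b ⁻¹ᵁ V, hw, InvX.pullElt b (M := (Scheme.Modules.pushforward b).obj L) (U := V) s,
        InvX.isFrame_pullElt b (isFrame_push b h0 hs), ?_⟩
      have h1 := congrArg (fun φ : (Scheme.Modules.pushforward b).obj L ⟶ (Scheme.Modules.pushforward b).obj L =>
        φ.app V s) ((Scheme.Modules.pullbackPushforwardAdjunction b).right_triangle_components L)
      have h2 : ((Scheme.Modules.pullbackPushforwardAdjunction b).counit.app L).app (b ⁻¹ᵁ V)
          (InvX.pullElt b (M := (Scheme.Modules.pushforward b).obj L) (U := V) s) = s := h1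
      rw [h2]
      exact hs
    exact ⟨asIso ((Scheme.Modules.pullbackPushforwardAdjunction b).counit.app L)⟩

/-- A frame of a restriction is a frame. -/
theorem isFrame_of_restrict {L : X.Modules} {U : X.Opens} {W : (U : Scheme.{u}).Opens}
    {s : Γ(L.restrict U.ι, W)} (hs : InvX.IsFrame s) :
    InvX.IsFrame (M := L) (U := U.ι ''ᵁ W) s := fun V hV => by
  obtain ⟨V', rfl⟩ : ∃ V', U.ι ''ᵁ V' = V := ⟨U.ι ⁻¹ᵁ V, by
    rw [Scheme.Hom.image_preimage_eq_opensRange_inf, Scheme.Opens.opensRange_ι]
    exact inf_eq_right.mpr (hV.trans (U.ι_image_le W))⟩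
  have hle : V' ≤ W := fun z hz => by
    obtain ⟨z', hz', e⟩ := hV ⟨z, hz, rfl⟩
    exact (U.ι.isOpenEmbedding.injective e) ▸ hz'
  have hiso : Function.Bijective (U.ι.appIso V').hom :=
    (ConcreteCategory.isIso_iff_bijective _).1 inferInstance
  have key : (fun r : Γ(X, U.ι ''ᵁ V') => r • AModX.res L hV (show Γ(L, U.ι ''ᵁ W) from s)) =
      (fun r' : Γ((U : Scheme.{u}), V') => (show Γ(L, U.ι ''ᵁ V') from r' • AModX.res (L.restrict U.ι) hle s)) ∘
        (U.ι.appIso V').hom := funext fun r => by
    show r • AModX.res L hV (show Γ(L, U.ι ''ᵁ W) from s) = (U.ι.appIso V').inv.hom ((U.ι.appIso V').hom r) •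
      AModX.res L hV (show Γ(L, U.ι ''ᵁ W) from s)
    rw [Iso.hom_inv_id_apply]
  rw [key]
  exact (hs V' hle).comp hiso

end Groth.Agent.FibrePP
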