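import Groth.Agent.FibrePP.LocalPic
import Groth.Agent.FibrePP.Push
import Groth.Agent.ExcTwist.Main
import Groth.Agent.Contraction7.Main
import Groth.Agent.H26.InterDiv
import Groth.Agent.H23.FiniteFibreSum
import Groth.Agent.S1622
import Groth.Agent.S2821
import Groth.Agent.ParaFX.Closed
import Groth.Agent.H23.PnChart
import Mathlib

/-! A module trivial on an exceptional curve is trivial near it. -/

set_option autoImplicit false
set_option linter.style.haveILetI false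
set_option backward.isDefEq.respectTransparency false
set_option backward.isDefEq.respectTransparency.types false
set_option maxHeartbeats 1000000

universe u

open CategoryTheory CategoryTheory.Limits AlgebraicGeometry TopologicalSpace IsLocalRing
open scoped Groth.Agent.H23.PicMul

noncomputable section

namespace Groth.Agent.FibrePP

open H23

theorem cl_pullback_comp {A B C : Scheme.{u}} (f : A ⟶ B) (g : B ⟶ C) (M : C.Modules) :
    PicF.cl ((Scheme.Modules.pullback (f ≫ g)).obj M) =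
      PicMul.pullHom f (PicF.cl ((Scheme.Modules.pullback g).obj M)) :=
  PicMul.cl_eq_iff.2 ⟨((Scheme.Modules.pullbackComp f g).app M).symm⟩

/-- Points over generisations of the centre of a point blow-up are regular. -/
theorem regular_over {X X' : Scheme.{u}} (b : X ⟶ X') {y : X'} (hy : IsClosed ({y} : Set X'))
    (hB : BlowUp.IsBlowUp b (Scheme.IdealSheafData.vanishingIdeal ⟨{y}, hy⟩))
    [IsRegularLocalRing (X'.presheaf.stalk y)] (hdim : ringKrullDim (X'.presheaf.stalk y) = 2)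
    {x : X} (hx : b x ⤳ y) : IsRegularLocalRing (X.presheaf.stalk x) := by
  let j := X'.fromSpecStalk y
  haveI : Flat j := H23.RatExtend.flat_fromSpecStalk X' y
  have hB' : BlowUp.IsBlowUp (pullback.snd b j) (BlowUpLib.centre (maximalIdeal (X'.presheaf.stalk y))) := by
    have h := BlowUpLib.isBlowUp_of_isPullback (IsPullback.of_hasPullback b j).flip hB
    rwa [Contraction7.comap_fromSpecStalk hy] at h
  have hr : b x ∈ Set.range j := by
    rw [Scheme.range_fromSpecStalk]; exact hx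
  obtain ⟨t, ht⟩ := hr
  obtain ⟨z, hz, -⟩ := Scheme.Pullback.exists_preimage_pullback (f := b) (g := j) x t ht.symm
  subst hz
  haveI := (S1622.result _ hdim _ (pullback.snd b j) hB').2 z
  exact IsRegularLocalRing.of_ringEquiv
    (RingEquiv.ofBijective _ (H23.FiniteFibreSum.bijective_stalkMap (pullback.fst b j) z)).symm

theorem isFrame_app_iso {X : Scheme.{u}} {M N : X.Modules} (e : M ≅ N) {W : X.Opens} {s : Γ(M, W)}
    (hs : InvX.IsFrame s) : InvX.IsFrame (e.hom.app W s) := fun V hV => by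
  have hb : Function.Bijective (e.hom.app V) :=
    (ConcreteCategory.isIso_iff_bijective _).1 (Scheme.Modules.Hom.isIso_iff_isIso_app.1 inferInstance V)
  have : (fun r : Γ(X, V) => r • AModX.res N hV (e.hom.app W s)) =
      (e.hom.app V) ∘ fun r : Γ(X, V) => r • AModX.res M hV s := funext fun r => by
    simp only [Function.comp_apply]
    rw [← AModX.app_res, Scheme.Modules.Hom.app_smul]
  rw [this]; exact hb.comp (hs V hV)

theorem exists_frame_near {E X X' : Scheme.{u}} [IsNoetherian X] [IsNoetherian X'] (ι : E ⟶ X) [IsClosedImmersion ι]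
    (hE : Models.IsExcCurve ι) (b : X ⟶ X') [IsProper b] {y : X'} (hy : IsClosed ({y} : Set X'))
    (hB : BlowUp.IsBlowUp b (Scheme.IdealSheafData.vanishingIdeal ⟨{y}, hy⟩))
    [IsRegularLocalRing (X'.presheaf.stalk y)] (hdim : ringKrullDim (X'.presheaf.stalk y) = 2)
    (hfib : b ⁻¹' {y} = Set.range ι) (L : X.Modules) (hL : PicF.IsInvertible L)
    (htriv : Nonempty ((Scheme.Modules.pullback ι).obj L ≅ Coh.structureModule E)) :
    ∃ (V : X'.Opens) (_ : y ∈ V) (s : Γ(L, b ⁻¹ᵁ V)), InvX.IsFrame s := by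
  obtain ⟨heff, k, _, e, ⟨φE⟩⟩ := hE
  haveI hkne : IsIntegral (CohB1.ProjSpace 1 k) := H23.PnChart.isIntegral_projSpace 1 k
  haveI : Nonempty E := ⟨e.hom (Classical.arbitrary _)⟩
  haveI : IsIntegral E := isIntegral_of_isOpenImmersion e.inv
  let ηE := genericPoint E
  have hEy : ∀ a, b (ι a) = y := fun a => (hfib.symm.subset ⟨a, rfl⟩ : ι a ∈ b ⁻¹' {y})
  haveI : IsDomain (X'.presheaf.stalk y) := RegLoc6.isDomain_of_isRegularLocalRing _
  obtain ⟨U₀, hyU₀, hUint⟩ := H23.FinCondSch.exists_integral_nhd y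
  obtain ⟨V₀, hV₀, hyV, hVU⟩ := exists_isAffineOpen_mem_and_subset (X := X') (x := y) (U := U₀) hyU₀
  haveI := hUint
  haveI : Nonempty (V₀ : Scheme.{u}) := ⟨⟨y, hyV⟩⟩
  haveI : IsIntegral (V₀ : Scheme.{u}) := isIntegral_of_isOpenImmersion (X'.homOfLE hVU)
  haveI : IsAffine (V₀ : Scheme.{u}) := hV₀
  let b₁ := b ∣_ V₀
  let j := (b ⁻¹ᵁ V₀).ι
  have hb₁ : BlowUp.IsBlowUp b₁ ((Scheme.IdealSheafData.vanishingIdeal ⟨{y}, hy⟩).comap V₀.ι) :=
    BlowUpLib.isBlowUp_of_isPullback (isPullback_morphismRestrict b V₀) hB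
  haveI : Nonempty (b ⁻¹ᵁ V₀ : X.Opens).toScheme := ⟨⟨ι ηE, show b (ι ηE) ∈ V₀ from (hEy ηE).symm ▸ hyV⟩⟩
  obtain hemp | ⟨hint, hgen, -⟩ := Lib.BlowUpInt.isEmpty_or_birational hb₁
  · exact hemp.elim (Classical.arbitrary _)
  haveI := hint
  haveI : IsLocallyNoetherian (b ⁻¹ᵁ V₀).toScheme := isLocallyNoetherian_of_isOpenImmersion j
  haveI : CompactSpace (V₀ : Scheme.{u}) := inferInstance
  haveI : CompactSpace (b ⁻¹ᵁ V₀).toScheme := QuasiCompact.compactSpace_of_compactSpace b₁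
  let y₁ : (V₀ : Scheme.{u}) := ⟨y, hyV⟩
  let εy := (asIso (V₀.ι.stalkMap y₁)).commRingCatIsoToRingEquiv
  haveI : IsRegularLocalRing (X'.presheaf.stalk (V₀.ι y₁)) := ‹_›
  haveI : IsRegularLocalRing ((V₀ : Scheme.{u}).presheaf.stalk y₁) := IsRegularLocalRing.of_ringEquiv εy
  haveI : IsDomain ((V₀ : Scheme.{u}).presheaf.stalk y₁) := (S2821.result _).1
  haveI : UniqueFactorizationMonoid ((V₀ : Scheme.{u}).presheaf.stalk y₁) := (S2821.result _).2
  have hcoe : ∀ p, (b₁ p).1 = b p.1 := fun p => morphismRestrict_base_coe b V₀ p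
  have hy₁ : IsClosed ({y₁} : Set (V₀ : Scheme.{u})) := by
    have : ({y₁} : Set (V₀ : Scheme.{u})) = (fun z : (V₀ : Scheme.{u}) => z.1) ⁻¹' {y} := by
      ext z; exact ⟨fun h => congrArg Subtype.val h, fun h => Subtype.ext h⟩
    rw [this]; exact hy.preimage continuous_subtype_val
  haveI : IsIso (b₁ ∣_ ⟨({y₁} : Set (V₀ : Scheme.{u}))ᶜ, hy₁.isOpen_compl⟩) := by
    refine BlowUpLib.isIso_restrict hb₁ _ fun x hx hmem => hx ?_
    have h1 : x ∈ V₀.ι ⁻¹' ((Scheme.IdealSheafData.vanishingIdeal ⟨{y}, hy⟩).support : Set X') := by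
      rw [← Closeds.coe_preimage _ V₀.ι.continuous, ← Scheme.IdealSheafData.support_comap]
      exact hmem
    rw [Scheme.IdealSheafData.coe_support_vanishingIdeal] at h1
    exact Subtype.ext h1
  have hXn : ∀ p, b₁ p ⤳ y₁ → IsDomain ((b ⁻¹ᵁ V₀).toScheme.presheaf.stalk p) ∧
      IsIntegrallyClosed ((b ⁻¹ᵁ V₀).toScheme.presheaf.stalk p) := fun p hp => by
    have h1 : b p.1 ⤳ y := by
      rw [← hcoe]; exact hp.map continuous_subtype_val
    haveI : IsRegularLocalRing (X.presheaf.stalk (j p)) := regular_over b hy hB hdim h1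
    haveI : IsRegularLocalRing ((b ⁻¹ᵁ V₀).toScheme.presheaf.stalk p) :=
      IsRegularLocalRing.of_ringEquiv (asIso (j.stalkMap p)).commRingCatIsoToRingEquiv
    exact ⟨RegLoc6.isDomain_of_isRegularLocalRing _, RegLoc6.isIntegrallyClosed_of_isRegularLocalRing _⟩
  let I₁ := ι.ker.comap j
  have hI₁ : BlowUp.IsEffCartierIdeal I₁ := BlowUpLib.isEffCartier_comap_flat j heff
  haveI : IsReduced I₁.subscheme := by
    haveI : IsReduced ι.image := isReduced_of_isOpenImmersion (inv ι.toImage)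
    haveI : IsReduced (pullback j ι.ker.subschemeι) := by
      haveI : IsReduced ι.ker.subscheme := ‹IsReduced ι.image›
      exact isReduced_of_isOpenImmersion (pullback.snd j ι.ker.subschemeι)
    exact isReduced_of_isOpenImmersion (ι.ker.comapIso j).hom
  have hker : (ι.ker.support : Set X) = Set.range ι := by
    rw [Scheme.Hom.support_ker, ι.isClosedEmbedding.isClosed_range.closure_eq]
  have hsupp : (I₁.support : Set (b ⁻¹ᵁ V₀).toScheme) = b₁ ⁻¹' {y₁} := by
    rw [Scheme.IdealSheafData.support_comap, Closeds.coe_preimage, hker, ← hfib]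
    ext p
    show b p.1 = y ↔ b₁ p = y₁
    rw [← hcoe]
    exact ⟨fun h => Subtype.ext h, fun h => congrArg Subtype.val h⟩
  let ι₁ : E ⟶ (b ⁻¹ᵁ V₀).toScheme := IsOpenImmersion.lift j ι (by
    rw [Scheme.Opens.range_ι]
    rintro _ ⟨a, rfl⟩
    show b (ι a) ∈ V₀
    rw [hEy]; exact hyV)
  have hι₁ : ι₁ ≫ j = ι := IsOpenImmersion.lift_fac _ _ _
  have hι₁p : ∀ a, j (ι₁ a) = ι a := fun a => by rw [← Scheme.Hom.comp_apply, hι₁]
  have hη : b₁ (ι₁ ηE) = y₁ := Subtype.ext (by rw [hcoe]; exact (congrArg b (hι₁p ηE)).trans (hEy ηE))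
  have hgenη : ∀ z, b₁ z = y₁ → ι₁ ηE ⤳ z := fun z hz => by
    have hz' : b z.1 = y := (hcoe z).symm.trans (congrArg Subtype.val hz)
    obtain ⟨a, ha⟩ := hfib.subset (show z.1 ∈ b ⁻¹' {y} from hz')
    have h1 : j (ι₁ ηE) ⤳ j z := by
      rw [hι₁p, show j z = ι a from ha.symm]
      exact (genericPoint_specializes a).map ι.continuous
    exact j.isOpenEmbedding.isInducing.specializes_iff.1 h1
  have hgy : b₁ (genericPoint (b ⁻¹ᵁ V₀).toScheme) ⤳ y₁ := by
    rw [← hη]; exact (genericPoint_specializes _).map b₁.continuous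
  obtain ⟨-, -, ω, hω, -, -, hdata⟩ := exists_local_data b₁ hXn hy₁ hgy hI₁ hsupp hη hgenη
  let L₁ := L.restrict j
  have hR : PicF.cl L₁ = PicF.cl ((Scheme.Modules.pullback j).obj L) :=
    PicMul.cl_eq_iff.2 ⟨(Scheme.Modules.restrictFunctorIsoPullback j).app L⟩
  have hL₁ : PicF.IsInvertible L₁ := ParaFX.isInvertible_restrict j hL
  obtain ⟨φ, hφ⟩ := exists_desc hL₁
  obtain ⟨c, n, hc, hdat⟩ := hdata hφ
  -- degrees on the curve
  have hpj : ∀ M : X.Modules, PicMul.pullHom (e.hom ≫ ι₁) (PicF.cl ((Scheme.Modules.pullback j).obj M)) =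
      PicF.cl ((Scheme.Modules.pullback (e.hom ≫ ι)).obj M) := fun M => by
    rw [← cl_pullback_comp, Category.assoc, hι₁]
  have hdegI : PicMul.pullHom (e.hom ≫ ι₁) (PicF.cl (ClSub.idealMod I₁)) = ExcTwist.tw k 1 := by
    rw [← PicMul.cl_eq_iff.2 (H26.InterDiv.nonempty_pullback_idealMod j ι.ker heff hI₁), hpj]
    exact PicMul.cl_eq_iff.2 ⟨φE⟩
  have hdegL : PicMul.pullHom (e.hom ≫ ι₁) (PicF.cl L₁) = 1 := by
    rw [hR, hpj, cl_pullback_comp, PicMul.cl_eq_iff.2 htriv, ← PicMul.one_def, map_one]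
  have hn : n = 0 ∧ ∃ W : ((b ⁻¹ᵁ V₀).toScheme).Opens, (∀ z, b₁ z = y₁ → z ∈ W) ∧ (n = 0 → ∃ s : Γ(L₁, W), InvX.IsFrame s) := by
    -- a class with constant coefficient near the curve is trivial on it
    have key : ∀ (N : (b ⁻¹ᵁ V₀).toScheme.Modules) (ψ : (b ⁻¹ᵁ V₀).toScheme → (b ⁻¹ᵁ V₀).toScheme.functionField)
        (c' : (b ⁻¹ᵁ V₀).toScheme.functionField), Desc (PicF.cl N) ψ → (∀ p, b₁ p ⤳ y₁ → UnitAt p (ψ p / c')) →
        ∃ W : ((b ⁻¹ᵁ V₀).toScheme).Opens, (∀ z, b₁ z = y₁ → z ∈ W) ∧ (∃ s : Γ(N, W), InvX.IsFrame s) ∧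
          PicMul.pullHom (e.hom ≫ ι₁) (PicF.cl N) = 1 := by
      intro N ψ c' hψ hu
      obtain ⟨hN, B, hB'⟩ := hψ N rfl
      let W : ((b ⁻¹ᵁ V₀).toScheme).Opens := ⟨{p | Gen B p c'}, isOpen_iff_forall_mem_open.2 fun p hp => by
        obtain ⟨O, hpO, s, hs, hsc⟩ := hp
        exact ⟨O, fun q hq => ⟨O, hq, s, hs, hsc⟩, O.2, hpO⟩⟩
      have hW : ∀ z, b₁ z = y₁ → z ∈ W := fun z hz => by
        obtain ⟨u, hu'⟩ := (hu z (hz ▸ specializes_rfl)).inv
        have hu2 : c' = algebraMap _ _ (u : (b ⁻¹ᵁ V₀).toScheme.presheaf.stalk z) * ψ z := by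
          rw [← hu', inv_div, div_mul_cancel₀ _ (hψ.ne_zero z)]
        show Gen B z c'
        rw [hu2]
        exact (hB' z).unit_mul _ u
      have hgW : genericPoint (b ⁻¹ᵁ V₀).toScheme ∈ W := gen_mem (hW _ hη)
      obtain ⟨s, hs, -⟩ := exists_frame_of_gen B hN hgW (c := c') fun p hp => hp
      refine ⟨W, hW, ⟨s, hs⟩, ?_⟩
      have htop : (e.hom ≫ ι₁) ⁻¹ᵁ W = ⊤ := top_le_iff.1 fun q _ => by
        show (e.hom ≫ ι₁) q ∈ W
        refine hW _ (Subtype.ext ?_)
        rw [hcoe, Scheme.Hom.comp_apply]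
        exact (congrArg b (hι₁p _)).trans (hEy _)
      have hfr := InvX.isFrame_pullElt (e.hom ≫ ι₁) hs
      haveI : IsIntegral (CohB1.ProjSpace 1 k) := hkne
      obtain ⟨iso⟩ := nonempty_iso_of_frame (hfr.res htop.ge)
      rw [PicMul.one_def]
      exact (PicMul.cl_eq_iff.2 ⟨iso⟩).symm
    rcases n.eq_nat_or_neg with ⟨m, rfl | rfl⟩
    · obtain ⟨D, hD, ⟨ε⟩⟩ := PicInv.exists_inverse ((S8914.result I₁).2 hI₁)
      obtain ⟨χ, hχ⟩ := exists_desc hD
      have hID : PicF.cl (ClSub.idealMod I₁) * PicF.cl D = 1 := by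
        rw [← PicMul.cl_tensor, PicMul.one_def]; exact PicMul.cl_eq_iff.2 ⟨ε⟩
      have h1 := hω.mul hχ
      rw [hID] at h1
      obtain ⟨κ₀, hκ, hκ'⟩ := h1.exists_const
      have h2 := hφ.mul (hχ.pow m)
      obtain ⟨W, hW, ⟨s, hs⟩, hdeg⟩ := key (CohB1.tensorMod L₁ (CohB1.tensorPow D m)) _ (c * κ₀ ^ m)
        (by rw [PicMul.cl_tensor, PicMul.cl_tensorPow]; exact h2) fun p hp => by
          obtain ⟨u, hu⟩ := hκ' p
          have e1 : φ p * χ p ^ m / (c * κ₀ ^ m) = φ p / (c * ω p ^ (m : ℤ)) * (ω p * χ p / κ₀) ^ m := by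
            have := hω.ne_zero p
            rw [zpow_natCast, div_pow, mul_pow]
            field_simp
          rw [e1, ← zpow_natCast _ m]
          refine (hdat p hp).mul (UnitAt.zpow ⟨u, ?_⟩ _)
          rw [hu, mul_div_cancel_right₀ _ hκ]
      rw [PicMul.cl_tensor, PicMul.cl_tensorPow, map_mul, hdegL, one_mul, map_pow] at hdeg
      have h3 : ExcTwist.tw k 1 * PicMul.pullHom (e.hom ≫ ι₁) (PicF.cl D) = 1 := by
        rw [← hdegI, ← map_mul, hID, map_one]
      have h4 : ExcTwist.tw k (m : ℤ) = 1 := by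
        have h5 := congrArg (· ^ m) h3
        simp only [mul_pow, hdeg, mul_one, one_pow] at h5
        rwa [ExcTwist.tw_pow, one_mul] at h5
      have hm : m = 0 := by exact_mod_cast ExcTwist.tw_eq_one k h4
      subst hm
      refine ⟨rfl, W, hW, fun _ => ?_⟩
      obtain ⟨iso⟩ := PicMul.unit L₁
      exact ⟨iso.hom.app W s, isFrame_app_iso iso hs⟩
    · obtain ⟨W, hW, ⟨s, hs⟩, hdeg⟩ := key (CohB1.tensorMod L₁ (CohB1.tensorPow (ClSub.idealMod I₁) m)) _ c
        (by rw [PicMul.cl_tensor, PicMul.cl_tensorPow]; exact hφ.mul (hω.pow m)) fun p hp => by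
          have h := hdat p hp
          rw [zpow_neg, zpow_natCast, ← div_div, div_inv_eq_mul, div_mul_eq_mul_div] at h
          exact h
      rw [PicMul.cl_tensor, PicMul.cl_tensorPow, map_mul, hdegL, one_mul, map_pow, hdegI, ExcTwist.tw_pow,
        one_mul] at hdeg
      have hm : m = 0 := by exact_mod_cast ExcTwist.tw_eq_one k hdeg
      subst hm
      refine ⟨by simp, W, hW, fun _ => ?_⟩
      obtain ⟨iso⟩ := PicMul.unit L₁
      exact ⟨iso.hom.app W s, isFrame_app_iso iso hs⟩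
  obtain ⟨hn0, W, hW, hs'⟩ := hn
  obtain ⟨s, hs⟩ := hs' hn0
  let O := j ''ᵁ W
  have hsub : b ⁻¹' {y} ⊆ (O : Set X) := fun x hx => by
    refine ⟨⟨x, show b x ∈ V₀ from (show b x = y from hx).symm ▸ hyV⟩, hW _ (Subtype.ext ?_), rfl⟩
    rw [hcoe]; exact hx
  let V : X'.Opens := ⟨(b '' (O : Set X)ᶜ)ᶜ, (b.isClosedMap _ O.2.isClosed_compl).isOpen_compl⟩
  have hyV' : y ∈ V := fun ⟨x, hx, hxy⟩ => hx (hsub hxy)
  have hVO : b ⁻¹ᵁ V ≤ O := fun x hx => by
    by_contra h
    exact hx ⟨x, h, rfl⟩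
  exact ⟨V, hyV', _, (isFrame_of_restrict hs).res hVO⟩

end Groth.Agent.FibrePP
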