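import Groth.Agent.FibrePP.Coef
import Groth.Agent.H23.StalkPrimes
import Groth.Agent.DivX.CodimOne
import Mathlib

/-! Invertible modules over a factorial point of the base, when the fibre has one divisorial point. -/

set_option autoImplicit false
set_option linter.style.haveILetI false
set_option backward.isDefEq.respectTransparency false
set_option backward.isDefEq.respectTransparency.types false

universe u

open CategoryTheory AlgebraicGeometry TopologicalSpace IsLocalRing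
open scoped Groth.Agent.H23.PicMul

noncomputable section

namespace Groth.Agent.FibrePP

variable {X : Scheme.{u}} [IsIntegral X]

/-- A unit of the local ring at `p`. -/
def UnitAt (p : X) (a : X.functionField) : Prop :=
  ∃ u : (X.presheaf.stalk p)ˣ, a = algebraMap _ X.functionField (u : X.presheaf.stalk p)

theorem UnitAt.one (p : X) : UnitAt p 1 := ⟨1, by rw [Units.val_one, map_one]⟩

theorem UnitAt.mul {p : X} {a b : X.functionField} (ha : UnitAt p a) (hb : UnitAt p b) : UnitAt p (a * b) := by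
  obtain ⟨u, rfl⟩ := ha
  obtain ⟨v, rfl⟩ := hb
  exact ⟨u * v, by rw [Units.val_mul, map_mul]⟩

theorem UnitAt.ne_zero {p : X} {a : X.functionField} (ha : UnitAt p a) : a ≠ 0 := by
  obtain ⟨u, rfl⟩ := ha
  exact (map_ne_zero_iff _ (algebraMap_injective p)).2 u.ne_zero

theorem UnitAt.inv {p : X} {a : X.functionField} (ha : UnitAt p a) : UnitAt p a⁻¹ := by
  obtain ⟨u, rfl⟩ := ha
  exact ⟨u⁻¹, (eq_inv_of_mul_eq_one_left (by rw [← map_mul, Units.inv_mul, map_one])).symm⟩

theorem UnitAt.zpow {p : X} {a : X.functionField} (ha : UnitAt p a) (z : ℤ) : UnitAt p (a ^ z) := by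
  obtain ⟨u, rfl⟩ := ha
  exact ⟨u ^ z, (map_zpow ((Units.coeHom X.functionField).comp
    (Units.map (algebraMap (X.presheaf.stalk p) X.functionField).toMonoidHom)) u z).symm⟩

theorem UnitAt.prod {p : X} {J : Type*} (s : Finset J) {a : J → X.functionField} (h : ∀ j ∈ s, UnitAt p (a j)) :
    UnitAt p (∏ j ∈ s, a j) :=
  Finset.prod_induction a (UnitAt p) (fun _ _ => UnitAt.mul) (UnitAt.one p) h

theorem UnitAt.mono {ξ p : X} (h : ξ ⤳ p) {a : X.functionField} (ha : UnitAt p a) : UnitAt ξ a := by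
  obtain ⟨u, rfl⟩ := ha
  exact ⟨Units.map (X.presheaf.stalkSpecializes h).hom.toMonoidHom u, (algebraMap_specializes h _).symm⟩

theorem unitAt_of_mem {p : X} {a : X.functionField} (ha : a ≠ 0) (h₁ : a ∈ O p) (h₂ : a⁻¹ ∈ O p) : UnitAt p a := by
  obtain ⟨r, hr⟩ := h₁
  obtain ⟨s, hs⟩ := h₂
  have hrs : r * s = 1 := algebraMap_injective p (by rw [map_mul, hr, hs, map_one, mul_inv_cancel₀ ha])
  exact ⟨(IsUnit.of_mul_eq_one s hrs).unit, hr.symm⟩

theorem UnitAt.mem {p : X} {a : X.functionField} (ha : UnitAt p a) : a ∈ O p := by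
  obtain ⟨u, rfl⟩ := ha
  exact ⟨_, rfl⟩

theorem unitAt_genericPoint {a : X.functionField} (ha : a ≠ 0) : UnitAt (genericPoint X) a :=
  unitAt_of_mem ha (O_genericPoint a) (O_genericPoint a⁻¹)

theorem isDVR' [IsLocallyNoetherian X] {ξ : X}
    (hXn : IsDomain (X.presheaf.stalk ξ) ∧ IsIntegrallyClosed (X.presheaf.stalk ξ))
    (h1 : ringKrullDim (X.presheaf.stalk ξ) ≤ 1) (hne : ξ ≠ genericPoint X) :
    IsDiscreteValuationRing (X.presheaf.stalk ξ) := by
  haveI := hXn.1
  haveI := hXn.2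
  have hf : ¬ IsField (X.presheaf.stalk ξ) := fun h =>
    hne (eq_genericPoint_of_dim_zero (ringKrullDim_eq_zero_of_isField h).le)
  haveI : Ring.KrullDimLE 1 (X.presheaf.stalk ξ) := (Ring.krullDimLE_iff).2 (by exact_mod_cast h1)
  have h03 : IsDiscreteValuationRing (X.presheaf.stalk ξ) ↔ IsIntegrallyClosed (X.presheaf.stalk ξ) ∧
      ∃! P : Ideal (X.presheaf.stalk ξ), P ≠ ⊥ ∧ P.IsPrime := (IsDiscreteValuationRing.TFAE _ hf).out 0 3
  refine h03.2 ⟨inferInstance, maximalIdeal _,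
    ⟨IsLocalRing.isField_iff_maximalIdeal_eq.not.mp hf, inferInstance⟩, fun P hP => ?_⟩
  haveI := hP.2
  exact IsLocalRing.eq_maximalIdeal (Ideal.IsPrime.isMaximal_of_ne_bot hP.2 hP.1)

/-- Normality: units are detected in height one. -/
theorem unitAt_of_height_one [IsLocallyNoetherian X] {p : X}
    (hXn : IsDomain (X.presheaf.stalk p) ∧ IsIntegrallyClosed (X.presheaf.stalk p)) {a : X.functionField}
    (ha : a ≠ 0) (h : ∀ ξ, ξ ⤳ p → ringKrullDim (X.presheaf.stalk ξ) ≤ 1 → UnitAt ξ a) : UnitAt p a := by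
  refine unitAt_of_mem ha ?_ ?_ <;> by_contra hc <;>
    obtain ⟨ξ, h1, h2, h3⟩ := exists_height_le_one_of_notMem' hXn hc
  · exact h3 (h ξ h1 h2).mem
  · exact h3 (h ξ h1 h2).inv.mem

theorem Desc.unitAt_div {a : PicF.Cl X} {φ : X → X.functionField} (ha : Desc a φ) {ξ p : X} (h : ξ ⤳ p) :
    UnitAt ξ (φ p / φ ξ) := by
  obtain ⟨u, hu⟩ := ha.specializes h
  have hp : φ p ≠ 0 := ha.ne_zero p
  rw [hu, div_mul_eq_div_div_swap, div_self hp, one_div]
  exact UnitAt.inv ⟨u, rfl⟩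

/-- Equality of classes with proportional descriptions. -/
theorem Desc.cl_eq {a b : PicF.Cl X} {φ ψ : X → X.functionField} (ha : Desc a φ) (hb : Desc b ψ)
    (c : X.functionField) (hc : c ≠ 0) (h : ∀ p, UnitAt p (φ p / (c * ψ p))) : a = b := by
  obtain ⟨N, hN⟩ := exists_rep b
  obtain ⟨hNi, -, -⟩ := hb N hN
  obtain ⟨N', hN', ⟨e⟩⟩ := H23.PicInv.exists_inverse hNi
  obtain ⟨χ, hχ⟩ := exists_desc hN'
  have hbb : b * PicF.cl N' = 1 := by
    rw [← hN, ← H23.PicMul.cl_tensor, H23.PicMul.one_def]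
    exact H23.PicMul.cl_eq_iff.2 ⟨e⟩
  have h1 := hb.mul hχ
  rw [hbb] at h1
  obtain ⟨k, hk, hk'⟩ := h1.exists_const
  have hab : a * PicF.cl N' = 1 := by
    refine (ha.mul hχ).eq_one (c * k) fun p => ?_
    obtain ⟨u, hu⟩ := h p
    obtain ⟨v, hv⟩ := hk' p
    refine ⟨v⁻¹ * u⁻¹, ?_⟩
    have hψ := hb.ne_zero p
    have hu0 : algebraMap _ X.functionField (u : X.presheaf.stalk p) ≠ 0 := UnitAt.ne_zero ⟨u, rfl⟩
    have hv0 : algebraMap _ X.functionField (v : X.presheaf.stalk p) ≠ 0 := UnitAt.ne_zero ⟨v, rfl⟩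
    have e1 : ∀ w : (X.presheaf.stalk p)ˣ, algebraMap _ X.functionField ((w⁻¹ : Units _) : X.presheaf.stalk p) =
        (algebraMap _ X.functionField (w : X.presheaf.stalk p))⁻¹ := fun w =>
      eq_inv_of_mul_eq_one_left (by rw [← map_mul, Units.inv_mul, map_one])
    rw [Units.val_mul, map_mul, e1, e1]
    rw [div_eq_iff (mul_ne_zero hc hψ)] at hu
    rw [hu]
    field_simp
    linear_combination (-1 : X.functionField) * hv
  calc a = a * (b * PicF.cl N') := by rw [hbb, mul_one]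
    _ = b * (a * PicF.cl N') := mul_left_comm _ _ _
    _ = b := by rw [hab, mul_one]

variable {Y : Scheme.{u}} (f : X ⟶ Y) {y : Y}

/-- The local ring of the base in the function field. -/
def κ (hgen : f (genericPoint X) ⤳ y) : Y.presheaf.stalk y →+* X.functionField :=
  (f.stalkMap (genericPoint X)).hom.comp (Y.presheaf.stalkSpecializes hgen).hom

theorem κ_eq (hgen : f (genericPoint X) ⤳ y) {ξ : X} (h : f ξ ⤳ y) (a : Y.presheaf.stalk y) :
    κ f hgen a = algebraMap (X.presheaf.stalk ξ) X.functionField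
      ((f.stalkMap ξ).hom ((Y.presheaf.stalkSpecializes h).hom a)) := by
  simp only [RingHom.algebraMap_toAlgebra]
  erw [← Scheme.Hom.stalkSpecializes_stalkMap_apply f (genericPoint X) ξ (genericPoint_specializes ξ)]
  show (f.stalkMap (genericPoint X)).hom ((Y.presheaf.stalkSpecializes hgen).hom a) = _
  congr 1
  exact (ConcreteCategory.congr_hom (Y.presheaf.stalkSpecializes_comp
    ((genericPoint_specializes ξ).map f.continuous) h) a).symm

/-- Over a factorial point whose fibre has a single divisorial point `η`, classes are powers of the class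
with a simple zero at `η`, up to a constant. -/
theorem exists_const [IsLocallyNoetherian X] [CompactSpace X] (hXn : ∀ x, f x ⤳ y → IsDomain (X.presheaf.stalk x) ∧ IsIntegrallyClosed (X.presheaf.stalk x))
    [IsDomain (Y.presheaf.stalk y)] [UniqueFactorizationMonoid (Y.presheaf.stalk y)]
    (hgen : f (genericPoint X) ⤳ y)
    (hiso : ∀ x, f x ≠ y → IsIso (f.stalkMap x)) (hinj : ∀ x x', f x ≠ y → f x = f x' → x = x')
    (η : X) (hηy : f η ⤳ y) (hη : ringKrullDim (X.presheaf.stalk η) ≤ 1) (hηgen : η ≠ genericPoint X)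
    (hfib : ∀ ξ, f ξ = y → ringKrullDim (X.presheaf.stalk ξ) ≤ 1 → ξ = η)
    {a b : PicF.Cl X} {φ ω : X → X.functionField} (ha : Desc a φ) (hb : Desc b ω)
    (hω : ∀ ξ, f ξ ⤳ y → ξ ≠ η → ringKrullDim (X.presheaf.stalk ξ) ≤ 1 → UnitAt ξ (ω ξ))
    (hωη : ∃ π : X.presheaf.stalk η, Irreducible π ∧ ω η = algebraMap _ X.functionField π) :
    ∃ (c : X.functionField) (n : ℤ), c ≠ 0 ∧ ∀ p, f p ⤳ y → UnitAt p (φ p / (c * ω p ^ n)) := by
  classical
  obtain ⟨L, hL⟩ := exists_rep a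
  obtain ⟨hLi, B, hB⟩ := ha L hL
  have hU : ∀ p ∈ B.U, UnitAt p (φ p) := fun p hp => by
    obtain ⟨u, hu⟩ := Gen.unique B (Gen.of_mem B hp) (hB p)
    exact ⟨u, by rw [hu, mul_one]⟩
  let S : Set X := {ξ | f ξ ⤳ y ∧ ξ ≠ η ∧ ringKrullDim (X.presheaf.stalk ξ) ≤ 1 ∧ ¬ UnitAt ξ (φ ξ)}
  have hSfin : S.Finite := (finite_heightOne (Z := (B.U : Set X)ᶜ) B.U.2.isClosed_compl
    (fun h => h B.mem)).subset fun ξ hξ => ⟨fun h => hξ.2.2.2 (hU ξ h), hξ.2.2.1⟩
  have hπ : ∀ ξ, ξ ∈ S → ∃ (π : Y.presheaf.stalk y) (z : ℤ), π ≠ 0 ∧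
      UnitAt ξ (φ ξ / κ f hgen π ^ z) ∧
      ∀ ξ', ξ' ≠ ξ → ξ' ≠ η → f ξ' ⤳ y → ringKrullDim (X.presheaf.stalk ξ') ≤ 1 → UnitAt ξ' (κ f hgen π) := by
    intro ξ hξ
    obtain ⟨hξy, hξη, hξd, hξu⟩ := hξ
    have hne : ξ ≠ genericPoint X := fun h => hξu (h ▸ unitAt_genericPoint (ha.ne_zero _))
    have hfne : f ξ ≠ y := fun h => hξη (hfib ξ h hξd)
    haveI := hiso ξ hfne
    haveI := isDVR' (hXn ξ hξy) hξd hne
    letI := (Y.presheaf.stalkSpecializes hξy).hom.toAlgebra
    let Q := (CDiv6.primeOf hξy).asIdeal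
    haveI : IsLocalization.AtPrime (Y.presheaf.stalk (f ξ)) Q := H23.StalkPrimes.isLocalization_primeOf hξy
    have hdimeq : ringKrullDim (X.presheaf.stalk ξ) = (Q.height : WithBot ℕ∞) := by
      rw [← ringKrullDim_eq_of_ringEquiv (asIso (f.stalkMap ξ)).commRingCatIsoToRingEquiv,
        IsLocalization.AtPrime.ringKrullDim_eq_height Q (Y.presheaf.stalk (f ξ))]
    have hQ : Q.height = 1 := by
      rw [IsPrincipalIdealRing.ringKrullDim_eq_one _ (IsDiscreteValuationRing.not_isField _)] at hdimeq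
      exact_mod_cast hdimeq.symm
    obtain ⟨π, hπp, hπQ⟩ := DivX.exists_prime_span_of_height_one Q hQ
    let π' : X.presheaf.stalk ξ := (f.stalkMap ξ).hom ((Y.presheaf.stalkSpecializes hξy).hom π)
    have hmax : maximalIdeal (Y.presheaf.stalk (f ξ)) = Ideal.span {(Y.presheaf.stalkSpecializes hξy).hom π} := by
      rw [← IsLocalization.AtPrime.map_eq_maximalIdeal Q (Y.presheaf.stalk (f ξ)), hπQ, Ideal.map_span,
        Set.image_singleton]
      rfl
    have hπ' : Irreducible π' := by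
      rw [IsDiscreteValuationRing.irreducible_iff_uniformizer]
      rw [← IsLocalRing.map_ringEquiv_maximalIdeal (asIso (f.stalkMap ξ)).commRingCatIsoToRingEquiv, hmax,
        Ideal.map_span, Set.image_singleton]
      rfl
    obtain ⟨w, z, hw⟩ := exists_zpow hπ' (ha.ne_zero ξ)
    refine ⟨π, z, hπp.ne_zero, ⟨w, ?_⟩, fun ξ' hne' hη' hy' hd' => ?_⟩
    · rw [hw, κ_eq f hgen hξy, mul_div_assoc, div_self (zpow_ne_zero _
        ((map_ne_zero_iff _ (algebraMap_injective ξ)).2 hπ'.ne_zero)), mul_one]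
    · have hfne' : f ξ' ≠ y := fun h => hη' (hfib ξ' h hd')
      haveI := hiso ξ' hfne'
      letI := (Y.presheaf.stalkSpecializes hy').hom.toAlgebra
      let Q' := (CDiv6.primeOf hy').asIdeal
      haveI : IsLocalization.AtPrime (Y.presheaf.stalk (f ξ')) Q' := H23.StalkPrimes.isLocalization_primeOf hy'
      have hπQ' : π ∉ Q' := fun hmem => by
        have hQ' : (Q'.height : WithBot ℕ∞) ≤ 1 := by
          rw [← IsLocalization.AtPrime.ringKrullDim_eq_height Q' (Y.presheaf.stalk (f ξ')),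
            ringKrullDim_eq_of_ringEquiv (asIso (f.stalkMap ξ')).commRingCatIsoToRingEquiv]
          exact hd'
        have hle : Q ≤ Q' := by rw [hπQ, Ideal.span_singleton_le_iff_mem]; exact hmem
        refine hne' (hinj _ _ hfne' (H23.StalkPrimes.primeOf_inj hy' hξy ?_))
        by_contra hne2
        have hlt : Q < Q' := lt_of_le_of_ne hle fun e => hne2 e.symm
        haveI : Q'.FiniteHeight := ⟨Or.inr (ne_top_of_le_ne_top (by simp) (show Q'.height ≤ 1 by exact_mod_cast hQ'))⟩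
        haveI := Ideal.finiteHeight_of_le hle Ideal.IsPrime.ne_top'
        have h3 := Ideal.height_strict_mono_of_isPrime hlt
        rw [hQ] at h3
        exact absurd (lt_of_lt_of_le h3 (show Q'.height ≤ 1 by exact_mod_cast hQ')) (lt_irrefl _)
      rw [κ_eq f hgen hy']
      exact ⟨((IsLocalization.AtPrime.isUnit_to_map_iff (Y.presheaf.stalk (f ξ')) Q' π).2 hπQ').map
        (f.stalkMap ξ').hom |>.unit, rfl⟩
  choose π z hπ0 hord hoth using hπ
  let c : X.functionField := ∏ s ∈ hSfin.toFinset.attach, κ f hgen (π s.1 (hSfin.mem_toFinset.1 s.2)) ^ z s.1 (hSfin.mem_toFinset.1 s.2)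
  have hκ : ∀ r, r ≠ 0 → κ f hgen r ≠ 0 := fun r hr => by
    intro h0
    by_cases hg : f (genericPoint X) = y
    · refine hηgen (hfib (genericPoint X) hg ?_).symm
      rw [ringKrullDim_eq_zero_of_isField (Field.toIsField X.functionField)]
      exact zero_le_one
    · haveI := hiso (genericPoint X) hg
      letI := (Y.presheaf.stalkSpecializes hgen).hom.toAlgebra
      haveI : IsLocalization.AtPrime (Y.presheaf.stalk (f (genericPoint X))) (CDiv6.primeOf hgen).asIdeal :=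
        H23.StalkPrimes.isLocalization_primeOf hgen
      have h1 : (Y.presheaf.stalkSpecializes hgen).hom r = 0 :=
        (ConcreteCategory.bijective_of_isIso (f.stalkMap (genericPoint X))).1 (h0.trans (map_zero _).symm)
      exact hr (IsLocalization.injective (M := (CDiv6.primeOf hgen).asIdeal.primeCompl) _
        (Ideal.primeCompl_le_nonZeroDivisors _) (h1.trans (map_zero _).symm))
  have hc0 : c ≠ 0 := Finset.prod_ne_zero_iff.2 fun s _ => zpow_ne_zero _ (hκ _ (hπ0 _ _))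
  have hoff : ∀ ξ, f ξ ⤳ y → ξ ≠ η → ringKrullDim (X.presheaf.stalk ξ) ≤ 1 → UnitAt ξ (φ ξ / c) := by
    intro ξ hy hne hd
    by_cases hS : ξ ∈ S
    · have hmem : (⟨ξ, hSfin.mem_toFinset.2 hS⟩ : {s // s ∈ hSfin.toFinset}) ∈ hSfin.toFinset.attach :=
        Finset.mem_attach _ _
      simp only [c]
      rw [← Finset.mul_prod_erase _ _ hmem, div_mul_eq_div_div]
      rw [div_eq_mul_inv (φ ξ / _)]
      refine (hord ξ hS).mul (UnitAt.inv (UnitAt.prod _ fun s hs => ?_))
      exact (hoth _ _ ξ (fun e => (Finset.mem_erase.1 hs).1 (Subtype.ext e.symm)) hne hy hd).zpow _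
    · have hu : UnitAt ξ (φ ξ) := by
        by_contra h
        exact hS ⟨hy, hne, hd, h⟩
      rw [div_eq_mul_inv]
      exact hu.mul (UnitAt.inv (UnitAt.prod _ fun s _ =>
        (hoth _ _ ξ (fun e => hS (e ▸ hSfin.mem_toFinset.1 s.2)) hne hy hd).zpow _))
  haveI := isDVR' (hXn η hηy) hη hηgen
  obtain ⟨ρ, hρ, hρω⟩ := hωη
  obtain ⟨w, n, hw⟩ := exists_zpow hρ (div_ne_zero (ha.ne_zero η) hc0)
  refine ⟨c, n, hc0, fun p hp => ?_⟩
  refine unitAt_of_height_one (hXn p hp) (div_ne_zero (ha.ne_zero p) (mul_ne_zero hc0 (zpow_ne_zero _ (hb.ne_zero p))))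
    fun ξ hξp hξd => ?_
  have key : φ p / (c * ω p ^ n) = (φ p / φ ξ) * ((ω p / ω ξ) ^ n)⁻¹ * (φ ξ / c * (ω ξ ^ n)⁻¹) := by
    have h1 := ha.ne_zero ξ; have h2 := hb.ne_zero ξ; have h3 := hb.ne_zero p
    rw [div_zpow]
    field_simp
  rw [key]
  refine ((ha.unitAt_div hξp).mul ((hb.unitAt_div hξp).zpow n).inv).mul ?_
  have hξy : f ξ ⤳ y := (hξp.map f.continuous).trans hp
  by_cases he : ξ = η
  · subst he
    refine ⟨w, ?_⟩
    rw [hw, hρω, mul_inv_cancel_right₀ (zpow_ne_zero _ ((map_ne_zero_iff _ (algebraMap_injective ξ)).2 hρ.ne_zero))]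
  · exact (hoff ξ hξy he hξd).mul ((hω ξ hξy he hξd).zpow n).inv

end Groth.Agent.FibrePP
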