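import Groth.Agent.FibrePP.Basic
import Groth.Agent.InvX.Tensor
import Groth.Agent.H23.PicMul
import Groth.Agent.DivX.MeroMod
import Mathlib

/-! Invertible modules on an integral scheme through the coefficients of their local frames. -/

set_option autoImplicit false
set_option linter.style.haveILetI false
set_option backward.isDefEq.respectTransparency false
set_option backward.isDefEq.respectTransparency.types false

universe u

open CategoryTheory AlgebraicGeometry TopologicalSpace IsLocalRing Opposite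
open scoped Groth.Agent.H23.PicMul

noncomputable section

namespace Groth.Agent.FibrePP

variable {X : Scheme.{u}} [IsIntegral X] {L L' : X.Modules}

theorem gen_mem {W : X.Opens} {p : X} (hp : p ∈ W) : genericPoint X ∈ W :=
  (genericPoint_specializes p).mem_open W.2 hp

/-- A frame near the generic point. -/
structure Base (L : X.Modules) where
  U : X.Opens
  mem : genericPoint X ∈ U
  e : Γ(L, U)
  he : InvX.IsFrame e

theorem Base.exists_of_isInvertible (hL : PicF.IsInvertible L) : Nonempty (Base L) := by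
  obtain ⟨U, hU, e, he⟩ := InvX.exists_frame hL (genericPoint X)
  exact ⟨⟨U, hU, e, he⟩⟩

variable (B : Base L)

/-- The coefficient of a section. -/
def coef {W : X.Opens} (hW : genericPoint X ∈ W) (s : Γ(L, W)) : X.functionField :=
  ((B.he.germ_bijective B.mem).2 (L.presheaf.germ W (genericPoint X) hW s)).choose

theorem coef_spec {W : X.Opens} (hW : genericPoint X ∈ W) (s : Γ(L, W)) :
    (coef B hW s : X.presheaf.stalk (genericPoint X)) • L.presheaf.germ B.U (genericPoint X) B.mem B.e =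
      L.presheaf.germ W (genericPoint X) hW s :=
  ((B.he.germ_bijective B.mem).2 (L.presheaf.germ W (genericPoint X) hW s)).choose_spec

theorem coef_eq {W : X.Opens} (hW : genericPoint X ∈ W) (s : Γ(L, W)) {c : X.functionField}
    (h : (c : X.presheaf.stalk (genericPoint X)) • L.presheaf.germ B.U (genericPoint X) B.mem B.e =
      L.presheaf.germ W (genericPoint X) hW s) : coef B hW s = c :=
  (B.he.germ_bijective B.mem).1 ((coef_spec B hW s).trans h.symm)

theorem coef_res {W V : X.Opens} (h : V ≤ W) (hV : genericPoint X ∈ V) (s : Γ(L, W)) :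
    coef B hV (AModX.res L h s) = coef B (h hV) s :=
  coef_eq B hV _ ((coef_spec B (h hV) s).trans (InvX.germ_res' h hV s).symm)

theorem coef_smul {W : X.Opens} (hW : genericPoint X ∈ W) (r : Γ(X, W)) (s : Γ(L, W)) :
    coef B hW (r • s) = X.presheaf.germ W (genericPoint X) hW r * coef B hW s := by
  refine coef_eq B hW _ ?_
  rw [QCoh.germ_smul' L hW, ← coef_spec B hW s, ← mul_smul]

theorem coef_base : coef B B.mem B.e = 1 := coef_eq B B.mem _ (one_smul _ _)

theorem coef_ne_zero {W : X.Opens} (hW : genericPoint X ∈ W) {s : Γ(L, W)} (hs : InvX.IsFrame s) :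
    coef B hW s ≠ 0 := fun h => by
  have h1 := coef_spec B hW s
  rw [h] at h1
  have h2 : (0 : X.presheaf.stalk (genericPoint X)) • L.presheaf.germ W (genericPoint X) hW s =
      (1 : X.presheaf.stalk (genericPoint X)) • L.presheaf.germ W (genericPoint X) hW s := by
    rw [zero_smul, one_smul, ← h1]
    exact (zero_smul _ _).symm
  exact zero_ne_one (α := X.functionField) ((hs.germ_bijective hW).1 h2)

theorem coef_injective (hL : PicF.IsInvertible L) {W : X.Opens} (hW : genericPoint X ∈ W) {s t : Γ(L, W)}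
    (h : coef B hW s = coef B hW t) : s = t := by
  refine AModX.eq_of_locally _ _ fun p hp => ?_
  obtain ⟨U, hU, e, he⟩ := InvX.exists_frame hL p
  have hg : genericPoint X ∈ W ⊓ U := gen_mem (p := p) ⟨hp, hU⟩
  obtain ⟨r, hr⟩ := he.exists_coord (inf_le_right : W ⊓ U ≤ U) (AModX.res L inf_le_left s)
  obtain ⟨r', hr'⟩ := he.exists_coord (inf_le_right : W ⊓ U ≤ U) (AModX.res L inf_le_left t)
  refine ⟨W ⊓ U, inf_le_left, ⟨hp, hU⟩, ?_⟩
  rw [hr, hr']
  have h1 : coef B hg (r • AModX.res L inf_le_right e) = coef B hg (r' • AModX.res L inf_le_right e) := by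
    rw [← hr, ← hr', coef_res, coef_res]; exact h
  rw [coef_smul, coef_smul] at h1
  rw [germ_injective_of_isIntegral X (genericPoint X) hg
    (mul_right_cancel₀ (coef_ne_zero B hg (he.res _)) h1)]

/-- `c` is the coefficient of a frame near `p`. -/
def Gen (p : X) (c : X.functionField) : Prop :=
  ∃ (W : X.Opens) (hp : p ∈ W) (s : Γ(L, W)), InvX.IsFrame s ∧ coef B (gen_mem hp) s = c

theorem Gen.exists' (hL : PicF.IsInvertible L) (p : X) : ∃ c, Gen B p c := by
  obtain ⟨U, hU, e, he⟩ := InvX.exists_frame hL p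
  exact ⟨_, U, hU, e, he, rfl⟩

theorem Gen.ne_zero {p : X} {c : X.functionField} (h : Gen B p c) : c ≠ 0 := by
  obtain ⟨W, hp, s, hs, rfl⟩ := h
  exact coef_ne_zero B _ hs

theorem Gen.mono {ξ p : X} (h : ξ ⤳ p) {c : X.functionField} (hc : Gen B p c) : Gen B ξ c := by
  obtain ⟨W, hp, s, hs, hsc⟩ := hc
  exact ⟨W, h.mem_open W.2 hp, s, hs, hsc⟩

theorem Gen.of_mem {p : X} (hp : p ∈ B.U) : Gen B p 1 := ⟨B.U, hp, B.e, B.he, coef_base B⟩

theorem germ_gen {W : X.Opens} {p : X} (hp : p ∈ W) (r : Γ(X, W)) :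
    algebraMap (X.presheaf.stalk p) X.functionField (X.presheaf.germ W p hp r) =
      X.presheaf.germ W (genericPoint X) (gen_mem hp) r := by
  simp only [RingHom.algebraMap_toAlgebra]
  exact X.presheaf.germ_stalkSpecializes_apply hp (genericPoint_specializes p) r

theorem Gen.unit_mul {p : X} {c : X.functionField} (hc : Gen B p c) (u : (X.presheaf.stalk p)ˣ) :
    Gen B p (algebraMap _ X.functionField (u : X.presheaf.stalk p) * c) := by
  obtain ⟨W, hp, s, hs, rfl⟩ := hc
  obtain ⟨V, hpV, r, hr⟩ := X.presheaf.exists_germ_eq (u : X.presheaf.stalk p)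
  let V' := X.basicOpen r
  have hpV' : p ∈ V' := (X.mem_basicOpen r p hpV).2 (hr ▸ u.isUnit)
  have hle : V' ≤ V := X.basicOpen_le r
  have hm : p ∈ W ⊓ V' := ⟨hp, hpV'⟩
  refine ⟨W ⊓ V', hm, AModX.resR ((inf_le_right : W ⊓ V' ≤ V').trans hle) r • AModX.res L inf_le_left s,
    (hs.res _).isUnit_smul ?_, ?_⟩
  · have h1 : IsUnit (AModX.resR hle r) := RingedSpace.isUnit_res_basicOpen X.toRingedSpace r
    have h0 := h1.map (AModX.resR (inf_le_right : W ⊓ V' ≤ V'))
    rwa [AModX.resR_resR] at h0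
  · rw [coef_smul, coef_res, ← hr, germ_gen hpV, InvX.germ_resR']

theorem Gen.unique {p : X} {c c' : X.functionField} (hc : Gen B p c) (hc' : Gen B p c') :
    ∃ u : (X.presheaf.stalk p)ˣ, c' = algebraMap _ X.functionField (u : X.presheaf.stalk p) * c := by
  obtain ⟨W, hp, s, hs, rfl⟩ := hc
  obtain ⟨W', hp', s', hs', rfl⟩ := hc'
  let V := W ⊓ W'
  have hm : p ∈ V := ⟨hp, hp'⟩
  obtain ⟨r, hr⟩ := hs.exists_coord (inf_le_left : V ≤ W) (AModX.res L inf_le_right s')
  obtain ⟨r', hr'⟩ := hs'.exists_coord (inf_le_right : V ≤ W') (AModX.res L inf_le_left s)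
  have h1 : r * r' = 1 := by
    refine hs'.coord_unique (inf_le_right : V ≤ W') ?_
    rw [mul_smul, ← hr', ← hr, one_smul]
  have hu : IsUnit (X.presheaf.germ V p hm r) := (IsUnit.of_mul_eq_one r' h1).map _
  refine ⟨hu.unit, ?_⟩
  have h2 := congrArg (coef B (gen_mem hm)) hr
  rw [coef_smul, coef_res, coef_res, ← germ_gen hm] at h2
  exact h2

/-- Sections with a given coefficient glue. -/
theorem exists_frame_of_gen (hL : PicF.IsInvertible L) {W : X.Opens} (hgW : genericPoint X ∈ W)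
    {c : X.functionField} (h : ∀ p ∈ W, Gen B p c) :
    ∃ s : Γ(L, W), InvX.IsFrame s ∧ coef B hgW s = c := by
  choose V hpV t ht htc using fun p : ↥W => h p.1 p.2
  let sf : ∀ p : ↥W, Γ(L, W ⊓ V p) := fun p => AModX.res L inf_le_right (t p)
  have hg : ∀ p : ↥W, genericPoint X ∈ W ⊓ V p := fun p => ⟨hgW, gen_mem (hpV p)⟩
  have hsf : ∀ p : ↥W, coef B (hg p) (sf p) = c := fun p => by rw [coef_res]; exact htc p
  obtain ⟨s, hs, -⟩ := AModX.existsUnique_glue (M := L) (V := W) (fun p : ↥W => W ⊓ V p) (fun p => inf_le_left)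
    (fun p hp => ⟨⟨p, hp⟩, hp, hpV ⟨p, hp⟩⟩) sf fun p q =>
      coef_injective B hL (W := (W ⊓ V p) ⊓ (W ⊓ V q)) (show genericPoint X ∈ (W ⊓ V p) ⊓ (W ⊓ V q) from ⟨hg p, hg q⟩) (((coef_res B _ _ _).trans (hsf p)).trans ((coef_res B _ _ _).trans (hsf q)).symm)
  refine ⟨s, InvX.isFrame_of_germ fun x hx => ?_, ?_⟩
  · rw [← InvX.germ_res' (inf_le_left : W ⊓ V ⟨x, hx⟩ ≤ W) ⟨hx, hpV ⟨x, hx⟩⟩ s, hs ⟨x, hx⟩,
      InvX.germ_res']
    exact (ht ⟨x, hx⟩).germ_bijective _
  · rw [← coef_res B (inf_le_left : W ⊓ V ⟨_, hgW⟩ ≤ W) (hg ⟨_, hgW⟩) s, hs ⟨_, hgW⟩, hsf]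

theorem nonempty_iso_of_frame {s : Γ(L, (⊤ : X.Opens))} (hs : InvX.IsFrame s) :
    Nonempty (Coh.structureModule X ≅ L) := by
  have h1 : InvX.IsFrame (M := Coh.structureModule X) (U := (⊤ : X.Opens)) (1 : Γ(X, ⊤)) := fun V hV => by
    have : (fun c : Γ(X, V) => c • AModX.res (Coh.structureModule X) hV (1 : Γ(X, ⊤))) = id := by
      funext c
      show c * AModX.resR hV 1 = c
      rw [map_one, mul_one]
    rw [this]; exact Function.bijective_id
  let sec : SheafOfModules.sections L := ⟨fun V => AModX.res L (le_top : unop V ≤ ⊤) s,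
    fun {V W} i => AModX.res_res (M := L) (le_top : unop V ≤ ⊤) i.unop.le s⟩
  let φ : Coh.structureModule X ⟶ L := (SheafOfModules.unitHomEquiv L).symm sec
  haveI : IsIso φ := DivX.isIso_of_frames φ fun x => ⟨⊤, trivial, _, h1, by
    show InvX.IsFrame (M := L) (U := (⊤ : X.Opens)) ((1 : Γ(X, ⊤)) • AModX.res L (le_refl (⊤ : X.Opens)) s)
    rw [one_smul, AModX.res_self]
    exact hs⟩
  exact ⟨asIso φ⟩

/-- The class of `L` is described by the coefficients `φ`. -/
def Desc (a : PicF.Cl X) (φ : X → X.functionField) : Prop :=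
  ∀ L : X.Modules, PicF.cl L = a → PicF.IsInvertible L ∧ ∃ B : Base L, ∀ p, Gen B p (φ p)

theorem Desc.of_gen (hL : PicF.IsInvertible L) {φ : X → X.functionField} (h : ∀ p, Gen B p (φ p)) :
    Desc (PicF.cl L) φ := by
  intro M hM
  obtain ⟨e⟩ := H23.PicMul.cl_eq_iff.1 hM.symm
  have hfr : ∀ {W : X.Opens} {s : Γ(L, W)}, InvX.IsFrame s → InvX.IsFrame (e.hom.app W s) := fun {W s} hs V hV => by
    have hb : Function.Bijective (e.hom.app V) :=
      (ConcreteCategory.isIso_iff_bijective _).1 (Scheme.Modules.Hom.isIso_iff_isIso_app.1 inferInstance V)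
    have : (fun r : Γ(X, V) => r • AModX.res M hV (e.hom.app W s)) =
        (e.hom.app V) ∘ fun r : Γ(X, V) => r • AModX.res L hV s := funext fun r => by
      simp only [Function.comp_apply]
      rw [← AModX.app_res, Scheme.Modules.Hom.app_smul]
    rw [this]; exact hb.comp (hs V hV)
  refine ⟨H23.PicMul.isInvertible_of_iso e hL, ⟨B.U, B.mem, e.hom.app B.U B.e, hfr B.he⟩, fun p => ?_⟩
  obtain ⟨W, hp, s, hs, hsc⟩ := h p
  refine ⟨W, hp, e.hom.app W s, hfr hs, ?_⟩
  rw [← hsc]
  obtain ⟨r, hr⟩ := B.he.exists_coord (inf_le_right : W ⊓ B.U ≤ B.U) (AModX.res L inf_le_left s)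
  have hg : genericPoint X ∈ W ⊓ B.U := ⟨gen_mem hp, B.mem⟩
  have hr2 := congrArg (e.hom.app (W ⊓ B.U)) hr
  rw [Scheme.Modules.Hom.app_smul, AModX.app_res, AModX.app_res] at hr2
  rw [← coef_res _ (inf_le_left : W ⊓ B.U ≤ W) hg, hr2, coef_smul, coef_res, coef_base,
    ← coef_res B (inf_le_left : W ⊓ B.U ≤ W) hg, hr, coef_smul, coef_res, coef_base]

theorem exists_desc (hL : PicF.IsInvertible L) : ∃ φ : X → X.functionField, Desc (PicF.cl L) φ := by
  obtain ⟨B⟩ := Base.exists_of_isInvertible hL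
  choose φ hφ using Gen.exists' B hL
  exact ⟨φ, Desc.of_gen B hL hφ⟩

theorem exists_rep (a : PicF.Cl X) : ∃ L : X.Modules, PicF.cl L = a := by
  induction a using Quot.ind with | mk A => exact ⟨A, rfl⟩

theorem Desc.ne_zero {a : PicF.Cl X} {φ : X → X.functionField} (h : Desc a φ) (p : X) : φ p ≠ 0 := by
  obtain ⟨L, hL⟩ := exists_rep a
  obtain ⟨-, B, hB⟩ := h L hL
  exact (hB p).ne_zero

theorem Desc.specializes {a : PicF.Cl X} {φ : X → X.functionField} (h : Desc a φ) {ξ p : X} (hξ : ξ ⤳ p) :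
    ∃ u : (X.presheaf.stalk ξ)ˣ, φ ξ = algebraMap _ X.functionField (u : X.presheaf.stalk ξ) * φ p := by
  obtain ⟨L, hL⟩ := exists_rep a
  obtain ⟨-, B, hB⟩ := h L hL
  exact Gen.unique B ((hB p).mono _ hξ) (hB ξ)

theorem Desc.mul {a b : PicF.Cl X} {φ ψ : X → X.functionField} (ha : Desc a φ) (hb : Desc b ψ) :
    Desc (a * b) (fun p => φ p * ψ p) := by
  obtain ⟨M, hM⟩ := exists_rep a
  obtain ⟨N, hN⟩ := exists_rep b
  obtain ⟨hMi, B, hB⟩ := ha M hM
  obtain ⟨hNi, B', hB'⟩ := hb N hN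
  rw [← hM, ← hN, ← H23.PicMul.cl_tensor]
  let B'' : Base (CohB1.tensorMod M N) := ⟨B.U ⊓ B'.U, ⟨B.mem, B'.mem⟩,
    InvX.tmul (AModX.res M inf_le_left B.e) (AModX.res N inf_le_right B'.e),
    InvX.isFrame_tmul (B.he.res _) (B'.he.res _)⟩
  refine Desc.of_gen B'' (H23.PicMul.isInvertible_tensor hMi hNi) fun p => ?_
  obtain ⟨W, hp, s, hs, hsc⟩ := hB p
  obtain ⟨W', hp', t, ht, htc⟩ := hB' p
  let V := W ⊓ W'
  refine ⟨V, ⟨hp, hp'⟩, InvX.tmul (AModX.res M inf_le_left s) (AModX.res N inf_le_right t),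
    InvX.isFrame_tmul (hs.res _) (ht.res _), ?_⟩
  let O := V ⊓ B''.U
  have hg : genericPoint X ∈ O := ⟨gen_mem (p := p) ⟨hp, hp'⟩, B''.mem⟩
  have hO1 : O ≤ B.U := inf_le_right.trans inf_le_left
  have hO2 : O ≤ B'.U := inf_le_right.trans inf_le_right
  have hO3 : O ≤ W := inf_le_left.trans inf_le_left
  have hO4 : O ≤ W' := inf_le_left.trans inf_le_right
  obtain ⟨r, hr⟩ := B.he.exists_coord hO1 (AModX.res M hO3 s)
  obtain ⟨r', hr'⟩ := B'.he.exists_coord hO2 (AModX.res N hO4 t)
  have hr1 := congrArg (coef B hg) hr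
  have hr2 := congrArg (coef B' hg) hr'
  rw [coef_smul, coef_res, coef_res, coef_base, mul_one, hsc] at hr1
  rw [coef_smul, coef_res, coef_res, coef_base, mul_one, htc] at hr2
  rw [← coef_res B'' (inf_le_left : O ≤ V) hg, InvX.res_tmul, AModX.res_res, AModX.res_res, hr, hr',
    InvX.tmul_smul_left, InvX.tmul_smul_right, ← mul_smul,
    coef_smul, map_mul, hr1, hr2]
  have hbase : coef B'' hg (InvX.tmul (AModX.res M hO1 B.e) (AModX.res N hO2 B'.e)) = 1 := by
    rw [← coef_base B'', ← coef_res B'' (inf_le_right : O ≤ B''.U) hg B''.e]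
    refine congrArg _ ?_
    show _ = AModX.res (CohB1.tensorMod M N) _ (InvX.tmul (AModX.res M inf_le_left B.e) (AModX.res N inf_le_right B'.e))
    rw [InvX.res_tmul, AModX.res_res, AModX.res_res]
  rw [hbase, mul_one]

theorem isInvertible_structureModule : PicF.IsInvertible (Coh.structureModule X) :=
  PicLoc.isInvertible_structureModule X

/-- The trivial class is described by a constant. -/
theorem desc_one : Desc (1 : PicF.Cl X) (fun _ => 1) := by
  have h1 : InvX.IsFrame (M := Coh.structureModule X) (U := (⊤ : X.Opens)) (1 : Γ(X, ⊤)) := fun V hV => by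
    have : (fun c : Γ(X, V) => c • AModX.res (Coh.structureModule X) hV (1 : Γ(X, ⊤))) = id := by
      funext c
      show c * AModX.resR hV 1 = c
      rw [map_one, mul_one]
    rw [this]; exact Function.bijective_id
  rw [H23.PicMul.one_def]
  exact Desc.of_gen (L := Coh.structureModule X) ⟨⊤, trivial, (1 : Γ(X, ⊤)), h1⟩ isInvertible_structureModule
    fun p => Gen.of_mem (L := Coh.structureModule X) ⟨⊤, trivial, (1 : Γ(X, ⊤)), h1⟩ (Opens.mem_top p)

theorem Desc.pow {a : PicF.Cl X} {φ : X → X.functionField} (ha : Desc a φ) (n : ℕ) :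
    Desc (a ^ n) (fun p => φ p ^ n) := by
  induction n with
  | zero => simpa using desc_one
  | succ n ih =>
    simp only [pow_succ]
    exact ih.mul ha

/-- A class described by unit multiples of a constant is trivial. -/
theorem Desc.eq_one {a : PicF.Cl X} {φ : X → X.functionField} (h : Desc a φ) (c : X.functionField)
    (hc : ∀ p, ∃ u : (X.presheaf.stalk p)ˣ, c = algebraMap _ X.functionField (u : X.presheaf.stalk p) * φ p) :
    a = 1 := by
  obtain ⟨L, hL⟩ := exists_rep a
  obtain ⟨hLi, B, hB⟩ := h L hL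
  obtain ⟨s, hs, -⟩ := exists_frame_of_gen B hLi (Opens.mem_top (genericPoint X)) (c := c) fun p _ => by
    obtain ⟨u, hu⟩ := hc p
    exact hu ▸ (hB p).unit_mul _ u
  rw [← hL, H23.PicMul.one_def]
  exact (H23.PicMul.cl_eq_iff.2 (nonempty_iso_of_frame hs)).symm

/-- A trivial class is described by unit multiples of a constant. -/
theorem Desc.exists_const {φ : X → X.functionField} (h : Desc (1 : PicF.Cl X) φ) :
    ∃ c : X.functionField, c ≠ 0 ∧
      ∀ p, ∃ u : (X.presheaf.stalk p)ˣ, φ p = algebraMap _ X.functionField (u : X.presheaf.stalk p) * c := by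
  obtain ⟨-, B, hB⟩ := h (Coh.structureModule X) H23.PicMul.one_def.symm
  have h1 : InvX.IsFrame (M := Coh.structureModule X) (U := (⊤ : X.Opens)) (1 : Γ(X, ⊤)) := fun V hV => by
    have : (fun c : Γ(X, V) => c • AModX.res (Coh.structureModule X) hV (1 : Γ(X, ⊤))) = id := by
      funext c
      show c * AModX.resR hV 1 = c
      rw [map_one, mul_one]
    rw [this]; exact Function.bijective_id
  refine ⟨_, coef_ne_zero B (Opens.mem_top _) h1, fun p => Gen.unique B ?_ (hB p)⟩
  exact ⟨⊤, Opens.mem_top p, _, h1, rfl⟩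

end Groth.Agent.FibrePP
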