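import Groth.Agent.H26.BiratFibre
import Groth.Agent.Lib.NormalPush
import Groth.Agent.Lib.ZMTIso
import Mathlib

/-! Exceptional fibres of proper birational morphisms onto normal schemes consist of curves. -/

set_option autoImplicit false
set_option linter.style.haveILetI false
set_option backward.isDefEq.respectTransparency false
set_option backward.isDefEq.respectTransparency.types false

universe u

open CategoryTheory AlgebraicGeometry TopologicalSpace

namespace Groth.Agent.FibrePP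

/-- A proper birational morphism onto a normal scheme is an isomorphism away from the points
whose fibres have no isolated point. -/
theorem exists_isoLocus {X Y : Scheme.{u}} [IsIntegral X] [IsIntegral Y] (f : X ⟶ Y) [IsProper f]
    {U : Y.Opens} (hU : (U : Set Y).Nonempty) [IsIso (f ∣_ U)] (hY : Pi1.IsNormalScheme Y) :
    ∃ V : Y.Opens, IsIso (f ∣_ V) ∧ ∀ y : Y, y ∉ (V : Set Y) → ∀ ξ : ↥(f ⁻¹' {y}), ¬ IsOpen ({ξ} : Set ↥(f ⁻¹' {y})) := by
  have hgen := H26.BiratFibre.apply_genericPoint_eq f hU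
  have hdom : f (genericPoint X) ⤳ genericPoint Y := specializes_of_eq hgen
  have hxU : genericPoint X ∈ f ⁻¹ᵁ U := by
    show f (genericPoint X) ∈ U
    rw [hgen]
    exact ((genericPoint_spec Y).mem_open_set_iff U.2).2 (by simpa using hU)
  haveI : IsIso (f.stalkMap (genericPoint X)) :=
    (MorphismProperty.isomorphisms CommRingCat).arrow_mk_iso_iff
      (morphismRestrictStalkMap f U ⟨genericPoint X, hxU⟩) |>.1 (inferInstanceAs (IsIso _))
  have hsurj : Function.Surjective (CohIII.stalkToFunctionField f (genericPoint Y) hdom) := by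
    show Function.Surjective ((f.stalkMap (genericPoint X)).hom ∘ (Y.presheaf.stalkSpecializes hdom).hom)
    refine (ConcreteCategory.bijective_of_isIso (f.stalkMap (genericPoint X))).2.comp fun b => ?_
    refine ⟨(Y.presheaf.stalkSpecializes (specializes_of_eq hgen.symm)).hom b, ?_⟩
    rw [← CommRingCat.comp_apply, TopCat.Presheaf.stalkSpecializes_comp, TopCat.Presheaf.stalkSpecializes_refl]
    rfl
  obtain ⟨V, hV, -, hno⟩ := Lib.ZMTIso.exists_open f fun W => (ConcreteCategory.isIso_iff_bijective _).1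
    (Lib.NormalPush.isIso_app hY f hdom (fun x _ => hsurj x) W)
  refine ⟨V, hV, fun y hy ξ hξ => hno y hy ((f.fiberHomeo y).symm ξ) ?_⟩
  rw [← Set.image_singleton]
  exact (f.fiberHomeo y).symm.isOpenMap _ hξ

/-- A component of a fibre without isolated points has a closed point off the other components
which is not its generic point. -/
theorem exists_closed_point {X Y : Scheme.{u}} (f : X ⟶ Y) [LocallyOfFiniteType f] [NoetherianSpace X] {y : Y}
    (hno : ∀ ξ : ↥(f ⁻¹' {y}), ¬ IsOpen ({ξ} : Set ↥(f ⁻¹' {y}))) {C : Set ↥(f ⁻¹' {y})}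
    (hC : C ∈ irreducibleComponents ↥(f ⁻¹' {y})) :
    ∃ x ξ : ↥(f ⁻¹' {y}), x ∈ C ∧ IsGenericPoint ξ C ∧ IsClosed ({x} : Set ↥(f ⁻¹' {y})) ∧ x ≠ ξ ∧
      ∀ C' ∈ irreducibleComponents ↥(f ⁻¹' {y}), C' ≠ C → x ∉ C' := by
  haveI : JacobsonSpace ↥(f ⁻¹' {y}) := .of_isClosedEmbedding (f.fiberHomeo y).symm.isClosedEmbedding
  haveI : QuasiSober ↥(f ⁻¹' {y}) := (f.fiberHomeo y).symm.isClosedEmbedding.quasiSober
  have hfin : (irreducibleComponents ↥(f ⁻¹' {y})).Finite :=
    NoetherianSpace.finite_irreducibleComponents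
  have hCc : IsClosed C := isClosed_of_mem_irreducibleComponents C hC
  obtain ⟨ξ, hξ⟩ := QuasiSober.sober hC.1 hCc
  let O : Set ↥(f ⁻¹' {y}) := ⋃₀ (irreducibleComponents ↥(f ⁻¹' {y}) \ {C})
  have hOc : IsClosed O := by
    show IsClosed (⋃₀ _)
    rw [Set.sUnion_eq_biUnion]
    exact (hfin.subset Set.sdiff_subset).isClosed_biUnion fun D hD => isClosed_of_mem_irreducibleComponents D hD.1
  have hξO : ξ ∉ O := by
    rintro ⟨D, ⟨hD, hDC⟩, hξD⟩
    have h1 : C ⊆ D := by
      rw [← hξ]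
      exact closure_minimal (Set.singleton_subset_iff.2 hξD) (isClosed_of_mem_irreducibleComponents D hD)
    exact hDC (h1.antisymm (hC.2 hD.1 h1)).symm
  have hne : (C ∩ Oᶜ) \ {ξ} ≠ ∅ ∨ IsOpen ({ξ} : Set ↥(f ⁻¹' {y})) := by
    refine or_iff_not_imp_left.2 fun h => ?_
    rw [not_not, Set.sdiff_eq_empty] at h
    have h1 : Oᶜ = {ξ} := by
      refine Set.Subset.antisymm (fun z hz => h ⟨?_, hz⟩) (Set.singleton_subset_iff.2 hξO)
      obtain ⟨D, hD, hzD⟩ : ∃ D ∈ irreducibleComponents ↥(f ⁻¹' {y}), z ∈ D :=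
        ⟨irreducibleComponent z, irreducibleComponent_mem_irreducibleComponents z, mem_irreducibleComponent⟩
      by_cases hDC : D = C
      · exact hDC ▸ hzD
      · exact absurd ⟨D, ⟨hD, hDC⟩, hzD⟩ hz
    exact h1 ▸ hOc.isOpen_compl
  replace hne := hne.resolve_right (hno ξ)
  obtain ⟨w, hw⟩ := Set.nonempty_iff_ne_empty.2 hne
  obtain ⟨z, ⟨hzC, hzO⟩, hzcl⟩ := nonempty_inter_closedPoints (Z := C ∩ Oᶜ) ⟨w, hw.1⟩
    (hCc.isLocallyClosed.inter hOc.isOpen_compl.isLocallyClosed)
  refine ⟨z, ξ, hzC, hξ, hzcl, ?_, fun D hD hDC hzD => hzO ⟨D, ⟨hD, hDC⟩, hzD⟩⟩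
  rintro rfl
  have h1 : C = {z} := by rw [← hξ]; exact hzcl.closure_eq
  exact hw.2 (h1 ▸ hw.1.1)

end Groth.Agent.FibrePP
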