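import Groth.Agent.FibrePP.BlowPic
import Groth.Agent.OmegaLib.IdealMod
import Groth.Agent.S8914
import Mathlib

/-! Invertible modules near a reduced irreducible exceptional divisor. -/

set_option autoImplicit false
set_option linter.style.haveILetI false
set_option backward.isDefEq.respectTransparency false
set_option backward.isDefEq.respectTransparency.types false

universe u

open CategoryTheory AlgebraicGeometry TopologicalSpace IsLocalRing
open scoped Groth.Agent.H23.PicMul

noncomputable section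

namespace Groth.Agent.FibrePP

variable {X : Scheme.{u}} [IsIntegral X]

theorem Desc.const_mul {a : PicF.Cl X} {φ : X → X.functionField} (ha : Desc a φ) {k : X.functionField}
    (hk : k ≠ 0) : Desc a (fun p => k * φ p) := by
  obtain ⟨L, rfl⟩ := exists_rep a
  obtain ⟨hL, B, hB⟩ := ha L rfl
  obtain ⟨v, hv⟩ := unitAt_genericPoint (inv_ne_zero hk)
  obtain ⟨W, hW, e', he', hc⟩ := (Gen.of_mem B B.mem).unit_mul _ v
  rw [← hv, mul_one] at hc
  refine Desc.of_gen ⟨W, hW, e', he'⟩ hL fun p => ?_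
  obtain ⟨V, hp, s, hs, hsc⟩ := hB p
  refine ⟨V, hp, s, hs, coef_eq _ _ _ ?_⟩
  show ((k * φ p : X.functionField) : X.presheaf.stalk (genericPoint X)) •
    L.presheaf.germ W (genericPoint X) hW e' = _
  rw [← coef_spec B (gen_mem (p := genericPoint X) hW) e', hc, ← mul_smul, ← coef_spec B (gen_mem hp) s, hsc]
  congr 1
  exact (mul_right_comm k (φ p) k⁻¹).trans (by rw [mul_inv_cancel₀ hk, one_mul])

/-- The value of a section of an ideal module. -/
theorem value_eq (I : X.IdealSheafData) (B : Base (ClSub.idealMod I)) {W : X.Opens}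
    (hW : genericPoint X ∈ W) (s : Γ(ClSub.idealMod I, W)) :
    (X.presheaf.germ W (genericPoint X) hW (OmegaSh.idealSect I W s) : X.functionField) =
      coef B hW s * X.presheaf.germ B.U (genericPoint X) B.mem (OmegaSh.idealSect I B.U B.e) := by
  have hg : genericPoint X ∈ W ⊓ B.U := ⟨hW, B.mem⟩
  obtain ⟨r, hr⟩ := B.he.exists_coord (inf_le_right : W ⊓ B.U ≤ B.U)
    (AModX.res (ClSub.idealMod I) (inf_le_left : W ⊓ B.U ≤ W) s)
  have h1 := congrArg (coef B hg) hr
  rw [coef_res, coef_smul, coef_res, coef_base, mul_one] at h1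
  have hres : ∀ (V : X.Opens) (h : W ⊓ B.U ≤ V) (t : Γ(ClSub.idealMod I, V)),
      OmegaSh.idealSect I (W ⊓ B.U) (AModX.res (ClSub.idealMod I) h t) = AModX.resR h (OmegaSh.idealSect I V t) :=
    fun V h t => AModX.app_res (ClSub.idealModι I) h t
  have h2 := congrArg (fun t => X.presheaf.germ (W ⊓ B.U) (genericPoint X) hg (OmegaSh.idealSect I (W ⊓ B.U) t)) hr
  simp only at h2
  rw [hres, OmegaLib.idealSect_smul, hres, map_mul, InvX.germ_resR', InvX.germ_resR'] at h2
  rw [h2, h1]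

theorem frame_spec' {I : X.IdealSheafData} {V : X.affineOpens} {e : Γ(ClSub.idealMod I, V.1)}
    (he : InvX.IsFrame e) :
    OmegaSh.idealSect I V.1 e ∈ nonZeroDivisors Γ(X, V.1) ∧ I.ideal V = Ideal.span {OmegaSh.idealSect I V.1 e} := by
  refine ⟨?_, le_antisymm (fun g hg => ?_) ?_⟩
  · rw [mem_nonZeroDivisors_iff_right]
    intro r hr
    rw [← OmegaLib.idealSect_smul] at hr
    have h0 : r • e = 0 := OmegaLib.idealSect_injective I V.1 (hr.trans (map_zero _).symm)
    have := (he V.1 le_rfl).1 (a₁ := r) (a₂ := 0)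
    simp only [AModX.res_self, zero_smul] at this
    exact this h0
  · obtain ⟨c, hc⟩ := OmegaLib.exists_of_mem I V g hg
    obtain ⟨r, hr⟩ := he.exists_coord le_rfl c
    rw [AModX.res_self] at hr
    rw [← hc, hr, OmegaLib.idealSect_smul]
    exact Ideal.mul_mem_left _ r (Ideal.mem_span_singleton_self _)
  · rw [Ideal.span_singleton_le_iff_mem]
    exact OmegaLib.idealSect_mem I V e

/-- Local equations describe the class of the ideal. -/
theorem exists_ideal_desc {I : X.IdealSheafData} (hI : BlowUp.IsEffCartierIdeal I) :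
    ∃ ω : X → X.functionField, Desc (PicF.cl (ClSub.idealMod I)) ω ∧
      ∀ p, ∃ (V : X.affineOpens) (hp : p ∈ V.1) (t : Γ(X, V.1)),
        t ≠ 0 ∧ I.ideal V = Ideal.span {t} ∧ ω p = algebraMap _ X.functionField (X.presheaf.germ V.1 p hp t) := by
  have hinv : PicF.IsInvertible (ClSub.idealMod I) := (S8914.result I).2 hI
  obtain ⟨B⟩ := Base.exists_of_isInvertible hinv
  have hdata : ∀ p : X, ∃ (V : X.affineOpens) (hp : p ∈ V.1) (s : Γ(ClSub.idealMod I, V.1)), InvX.IsFrame s := by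
    intro p
    obtain ⟨U, hU, e, he⟩ := InvX.exists_frame hinv p
    obtain ⟨V, hV, hpV, hVU⟩ := exists_isAffineOpen_mem_and_subset hU
    exact ⟨⟨V, hV⟩, hpV, AModX.res _ (show V ≤ U from hVU) e, he.res _⟩
  choose V hp s hs using hdata
  have hnz : ∀ p, OmegaSh.idealSect I (V p).1 (s p) ≠ 0 := fun p => by
    haveI : Nonempty (V p).1 := ⟨⟨p, hp p⟩⟩
    exact nonZeroDivisors.ne_zero (frame_spec' (hs p)).1
  have hk : (X.presheaf.germ B.U (genericPoint X) B.mem (OmegaSh.idealSect I B.U B.e) : X.functionField) ≠ 0 := by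
    intro h0
    apply hnz (genericPoint X)
    have h1 := value_eq I B (hp (genericPoint X)) (s (genericPoint X))
    rw [h0, mul_zero] at h1
    exact germ_injective_of_isIntegral X (genericPoint X) (hp _) (h1.trans (map_zero _).symm)
  refine ⟨_, (Desc.of_gen B hinv (φ := fun p => coef B (gen_mem (hp p)) (s p)) fun p =>
    ⟨_, hp p, s p, hs p, rfl⟩).const_mul hk, fun p => ?_⟩
  refine ⟨V p, hp p, _, hnz p, (frame_spec' (hs p)).2, ?_⟩
  rw [germ_gen, value_eq I B (gen_mem (hp p)), mul_comm]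

/-- The generic point of a reduced irreducible effective divisor is divisorial, with simple zero. -/
theorem exc_point [IsLocallyNoetherian X] {I : X.IdealSheafData}
    (hI : BlowUp.IsEffCartierIdeal I) [IsReduced I.subscheme] {η : X}
    (hXn : IsDomain (X.presheaf.stalk η) ∧ IsIntegrallyClosed (X.presheaf.stalk η)) (hη : η ∈ I.support)
    (hgenη : ∀ z ∈ I.support, η ⤳ z) :
    ringKrullDim (X.presheaf.stalk η) ≤ 1 ∧ η ≠ genericPoint X ∧
      ∃ ω : X → X.functionField, Desc (PicF.cl (ClSub.idealMod I)) ω ∧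
        (∀ ξ, ξ ∉ I.support → UnitAt ξ (ω ξ)) ∧
        ∃ π : X.presheaf.stalk η, Irreducible π ∧ ω η = algebraMap _ X.functionField π := by
  obtain ⟨ω, hω, hloc⟩ := exists_ideal_desc hI
  have hmem : ∀ (V : X.affineOpens) (ξ : X) (hξ : ξ ∈ V.1) (t : Γ(X, V.1)), I.ideal V = Ideal.span {t} →
      (ξ ∈ I.support ↔ ¬ IsUnit (X.presheaf.germ V.1 ξ hξ t)) := by
    intro V ξ hξ t ht
    rw [Scheme.IdealSheafData.mem_support_iff_of_mem hξ, ht, X.zeroLocus_span, Scheme.mem_zeroLocus_iff]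
    simp only [Set.mem_singleton_iff, forall_eq]
    rw [Scheme.mem_basicOpen _ _ _ hξ]
  have hoff : ∀ ξ, ξ ∉ I.support → UnitAt ξ (ω ξ) := fun ξ hξ => by
    obtain ⟨V, hp, t, -, ht, hωt⟩ := hloc ξ
    have hu : IsUnit (X.presheaf.germ V.1 ξ hp t) := by
      by_contra hu; exact hξ ((hmem V ξ hp t ht).2 hu)
    exact ⟨hu.unit, by rw [hωt]; rfl⟩
  obtain ⟨V, hηV, t, ht0, ht, hωt⟩ := hloc η
  have hne : η ≠ genericPoint X := by
    rintro rfl
    refine (hmem V _ hηV t ht).1 hη ?_
    exact isUnit_iff_ne_zero.2 ((map_ne_zero_iff _ (germ_injective_of_isIntegral X _ hηV)).2 ht0)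
  have hd : ringKrullDim (X.presheaf.stalk η) ≤ 1 := by
    have hinv : (ω η)⁻¹ ∉ O η := by
      rintro ⟨r, hr⟩
      refine (hmem V η hηV t ht).1 hη (IsUnit.of_mul_eq_one r (algebraMap_injective η ?_))
      rw [map_mul, hr, map_one, ← hωt, mul_inv_cancel₀ (hω.ne_zero η)]
    obtain ⟨ξ, h1, h2, h3⟩ := exists_height_le_one_of_notMem' hXn hinv
    have hξV : ξ ∈ V.1 := h1.mem_open V.1.2 hηV
    have hξs : ξ ∈ I.support := by
      by_contra hξs
      have hu : IsUnit (X.presheaf.germ V.1 ξ hξV t) := by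
        by_contra hu; exact hξs ((hmem V ξ hξV t ht).2 hu)
      refine h3 ⟨((hu.unit⁻¹ : Units _) : X.presheaf.stalk ξ), eq_inv_of_mul_eq_one_left ?_⟩
      rw [hωt, ← algebraMap_specializes h1, X.presheaf.germ_stalkSpecializes_apply hηV h1 t, ← map_mul,
        hu.val_inv_mul, map_one]
    rwa [(h1.antisymm (hgenη ξ hξs)).eq] at h2
  refine ⟨hd, hne, ω, hω, hoff, X.presheaf.germ V.1 η hηV t, ?_, hωt⟩
  haveI := isDVR' hXn hd hne
  set g := X.presheaf.germ V.1 η hηV t with hg
  have hg0 : g ≠ 0 := (map_ne_zero_iff _ (germ_injective_of_isIntegral X η hηV)).2 ht0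
  obtain ⟨π, hπ⟩ := IsDiscreteValuationRing.exists_irreducible (X.presheaf.stalk η)
  obtain ⟨n, u, hu⟩ := IsDiscreteValuationRing.eq_unit_mul_pow_irreducible hg0 hπ
  have hdvd : g ∣ π := by
    letI := TopCat.Presheaf.algebra_section_stalk X.presheaf (⟨η, hηV⟩ : (V.1 : X.Opens))
    haveI := V.2.isLocalization_stalk ⟨η, hηV⟩
    obtain ⟨r, s, hrs⟩ := IsLocalization.exists_mk'_eq (V.2.primeIdealOf ⟨η, hηV⟩).asIdeal.primeCompl π
    have hrad : (I.ideal V).IsRadical := by
      rw [← I.ker_subschemeι_app]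
      intro x hx
      obtain ⟨m, hm⟩ := hx
      rw [RingHom.mem_ker, map_pow] at hm
      exact RingHom.mem_ker.2 (eq_zero_of_pow_eq_zero hm)
    -- `g` divides a power of `π`
    have h1 : algebraMap Γ(X, V.1) (X.presheaf.stalk η) r = π * algebraMap Γ(X, V.1) _ s.1 := by
      rw [← hrs, IsLocalization.mk'_spec]
    have hgd : g ∣ (algebraMap Γ(X, V.1) (X.presheaf.stalk η) r) ^ n := by
      rw [h1, mul_pow, hu]
      exact ⟨((u⁻¹ : Units _) : X.presheaf.stalk η) * algebraMap Γ(X, V.1) _ s.1 ^ n, by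
        rw [mul_comm (u : X.presheaf.stalk η) (π ^ n), mul_assoc, ← mul_assoc (u : X.presheaf.stalk η),
          Units.mul_inv, one_mul]⟩
    obtain ⟨d, hd⟩ := hgd
    obtain ⟨q, w, rfl⟩ := IsLocalization.exists_mk'_eq (V.2.primeIdealOf ⟨η, hηV⟩).asIdeal.primeCompl d
    have h2 : algebraMap Γ(X, V.1) (X.presheaf.stalk η) (r ^ n * w.1) = algebraMap Γ(X, V.1) _ (t * q) := by
      rw [map_mul, map_mul, map_pow, hd, mul_assoc, IsLocalization.mk'_spec]
      rfl
    have h3 : r * w.1 ∈ I.ideal V := by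
      refine hrad ⟨n + 1, ?_⟩
      rw [ht, Ideal.mem_span_singleton]
      exact ⟨q * r * w.1 ^ n, by
        rw [← mul_assoc, ← mul_assoc, ← (germ_injective_of_isIntegral X η hηV h2), mul_pow, pow_succ, pow_succ]
        ring⟩
    rw [ht, Ideal.mem_span_singleton] at h3
    have h4 : g ∣ algebraMap Γ(X, V.1) (X.presheaf.stalk η) (r * w.1) :=
      map_dvd (algebraMap Γ(X, V.1) (X.presheaf.stalk η)) h3
    rw [map_mul, h1] at h4
    have hs := IsLocalization.map_units (X.presheaf.stalk η) s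
    have hw := IsLocalization.map_units (X.presheaf.stalk η) w
    rwa [hw.dvd_mul_right, hs.dvd_mul_right] at h4
  have hnu : ¬ IsUnit g := (hmem V η hηV t ht).1 hη
  exact ((hπ.dvd_iff.1 hdvd).resolve_left hnu).irreducible_iff.1 hπ

end Groth.Agent.FibrePP
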