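import Groth.Agent.FibrePP.ExcPic
import Mathlib

/-! The Picard group near the exceptional divisor over a factorial point. -/

set_option autoImplicit false
set_option linter.style.haveILetI false
set_option backward.isDefEq.respectTransparency false
set_option backward.isDefEq.respectTransparency.types false

universe u

open CategoryTheory AlgebraicGeometry TopologicalSpace IsLocalRing
open scoped Groth.Agent.H23.PicMul

noncomputable section

namespace Groth.Agent.FibrePP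

variable {X Y : Scheme.{u}} [IsIntegral X] (f : X ⟶ Y) {y : Y}

/-- Off the exceptional point a morphism that is an isomorphism there is injective with bijective stalk maps. -/
theorem iso_off (hy : IsClosed ({y} : Set Y)) [IsIso (f ∣_ ⟨({y} : Set Y)ᶜ, hy.isOpen_compl⟩)] :
    (∀ x, f x ≠ y → IsIso (f.stalkMap x)) ∧ ∀ x x', f x ≠ y → f x = f x' → x = x' := by
  refine ⟨fun x hx => ?_, fun x x' hx he => ?_⟩
  · exact (MorphismProperty.isomorphisms CommRingCat).arrow_mk_iso_iff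
      (morphismRestrictStalkMap f ⟨({y} : Set Y)ᶜ, hy.isOpen_compl⟩ ⟨x, hx⟩) |>.1 (inferInstanceAs (IsIso _))
  · have hx' : f x' ≠ y := fun h => hx (he.trans h)
    exact congrArg (fun q : ↥(f ⁻¹ᵁ ⟨({y} : Set Y)ᶜ, hy.isOpen_compl⟩) => q.1)
      ((f ∣_ ⟨({y} : Set Y)ᶜ, hy.isOpen_compl⟩).homeomorph.injective (a₁ := ⟨x, hx⟩) (a₂ := ⟨x', hx'⟩)
        (Subtype.ext ((morphismRestrict_base_coe f ⟨({y} : Set Y)ᶜ, hy.isOpen_compl⟩ ⟨x, hx⟩).trans
          (he.trans (morphismRestrict_base_coe f ⟨({y} : Set Y)ᶜ, hy.isOpen_compl⟩ ⟨x', hx'⟩).symm))))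

/-- Descriptions of classes near the exceptional divisor. -/
theorem exists_local_data [IsLocallyNoetherian X] [CompactSpace X] (hXn : ∀ x, f x ⤳ y → IsDomain (X.presheaf.stalk x) ∧ IsIntegrallyClosed (X.presheaf.stalk x))
    [IsDomain (Y.presheaf.stalk y)] [UniqueFactorizationMonoid (Y.presheaf.stalk y)]
    (hy : IsClosed ({y} : Set Y)) [IsIso (f ∣_ ⟨({y} : Set Y)ᶜ, hy.isOpen_compl⟩)]
    (hgen : f (genericPoint X) ⤳ y) {I : X.IdealSheafData} (hI : BlowUp.IsEffCartierIdeal I)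
    [IsReduced I.subscheme] (hsupp : (I.support : Set X) = f ⁻¹' {y}) {η : X} (hη : f η = y)
    (hgenη : ∀ z, f z = y → η ⤳ z) :
    ringKrullDim (X.presheaf.stalk η) ≤ 1 ∧ η ≠ genericPoint X ∧
    ∃ ω : X → X.functionField, Desc (PicF.cl (ClSub.idealMod I)) ω ∧
      (∀ ξ, f ξ ≠ y → UnitAt ξ (ω ξ)) ∧
      (∃ π : X.presheaf.stalk η, Irreducible π ∧ ω η = algebraMap _ X.functionField π) ∧
      ∀ {a : PicF.Cl X} {φ : X → X.functionField}, Desc a φ →
        ∃ (c : X.functionField) (n : ℤ), c ≠ 0 ∧ ∀ p, f p ⤳ y → UnitAt p (φ p / (c * ω p ^ n)) := by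
  have hmem : ∀ z, z ∈ I.support ↔ f z = y := fun z => Set.ext_iff.1 hsupp z
  obtain ⟨hd, hne, ω, hω, hoff, hπ⟩ := exc_point hI (hXn η (hη ▸ specializes_rfl)) ((hmem η).2 hη) fun z hz => hgenη z ((hmem z).1 hz)
  obtain ⟨hiso, hinj⟩ := iso_off f hy
  have hfib : ∀ ξ, f ξ = y → ringKrullDim (X.presheaf.stalk ξ) ≤ 1 → ξ = η := fun ξ hξ hξd =>
    ((eq_or_eq_genericPoint (hgenη ξ hξ) hξd).resolve_right hne).symm
  refine ⟨hd, hne, ω, hω, fun ξ hξ => hoff ξ fun h => hξ ((hmem ξ).1 h), hπ, fun {a φ} ha => ?_⟩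
  exact exists_const f hXn hgen hiso hinj η (hη ▸ specializes_rfl) hd hne hfib ha hω
    (fun ξ _ hne' hξd => hoff ξ fun h => hne' (hfib ξ ((hmem ξ).1 h) hξd)) hπ

/-- When every point lies over a generisation of `y`, all classes are powers of the exceptional one. -/
theorem cl_cases [IsLocallyNoetherian X] [CompactSpace X] (hXn : ∀ x, f x ⤳ y → IsDomain (X.presheaf.stalk x) ∧ IsIntegrallyClosed (X.presheaf.stalk x))
    [IsDomain (Y.presheaf.stalk y)] [UniqueFactorizationMonoid (Y.presheaf.stalk y)]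
    (hy : IsClosed ({y} : Set Y)) [IsIso (f ∣_ ⟨({y} : Set Y)ᶜ, hy.isOpen_compl⟩)]
    (hall : ∀ p, f p ⤳ y) {I : X.IdealSheafData} (hI : BlowUp.IsEffCartierIdeal I)
    [IsReduced I.subscheme] (hsupp : (I.support : Set X) = f ⁻¹' {y}) {η : X} (hη : f η = y)
    (hgenη : ∀ z, f z = y → η ⤳ z) (L : X.Modules) (hL : PicF.IsInvertible L) :
    ∃ n : ℕ, PicF.cl L = PicF.cl (ClSub.idealMod I) ^ n ∨ PicF.cl L * PicF.cl (ClSub.idealMod I) ^ n = 1 := by
  obtain ⟨-, -, ω, hω, -, -, hdata⟩ := exists_local_data f hXn hy (hall _) hI hsupp hη hgenη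
  obtain ⟨φ, hφ⟩ := exists_desc hL
  obtain ⟨c, n, hc, h⟩ := hdata hφ
  rcases n.eq_nat_or_neg with ⟨k, rfl | rfl⟩
  · refine ⟨k, Or.inl (hφ.cl_eq (hω.pow k) c hc fun p => ?_)⟩
    have := h p (hall p)
    rwa [zpow_natCast] at this
  · refine ⟨k, Or.inr ((hφ.mul (hω.pow k)).cl_eq desc_one c hc fun p => ?_)⟩
    have := h p (hall p)
    rw [zpow_neg, zpow_natCast] at this
    have e : φ p * ω p ^ k / (c * 1) = φ p / (c * (ω p ^ k)⁻¹) := by
      rw [mul_one, ← div_div, div_inv_eq_mul, div_mul_eq_mul_div]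
    rw [e]
    exact this

end Groth.Agent.FibrePP
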