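import Groth.Agent.FibrePP.Points
import Groth.Agent.H26.BiratFibre
import Mathlib

/-! Principal parts supported in the closed fibre of a modification of a normal surface germ vanish. -/

set_option autoImplicit false
set_option linter.style.haveILetI false
set_option backward.isDefEq.respectTransparency false
set_option backward.isDefEq.respectTransparency.types false

universe u

open CategoryTheory AlgebraicGeometry TopologicalSpace IsLocalRing

noncomputable section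

namespace Groth.Agent.FibrePP

variable {X : Scheme.{u}} [IsIntegral X]

theorem isDVR [IsLocallyNoetherian X] (hXn : Pi1.IsNormalScheme X) {ξ : X}
    (h1 : ringKrullDim (X.presheaf.stalk ξ) ≤ 1) (hne : ξ ≠ genericPoint X) :
    IsDiscreteValuationRing (X.presheaf.stalk ξ) := by
  haveI := (hXn ξ).1
  haveI := (hXn ξ).2
  have hf : ¬ IsField (X.presheaf.stalk ξ) := fun h =>
    hne (eq_genericPoint_of_dim_zero (ringKrullDim_eq_zero_of_isField h).le)
  haveI : Ring.KrullDimLE 1 (X.presheaf.stalk ξ) := (Ring.krullDimLE_iff).2 (by exact_mod_cast h1)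
  have h03 : IsDiscreteValuationRing (X.presheaf.stalk ξ) ↔ IsIntegrallyClosed (X.presheaf.stalk ξ) ∧
      ∃! P : Ideal (X.presheaf.stalk ξ), P ≠ ⊥ ∧ P.IsPrime := (IsDiscreteValuationRing.TFAE _ hf).out 0 3
  refine h03.2 ⟨inferInstance, maximalIdeal _,
    ⟨IsLocalRing.isField_iff_maximalIdeal_eq.not.mp hf, inferInstance⟩, fun P hP => ?_⟩
  haveI := hP.2
  exact IsLocalRing.eq_maximalIdeal (Ideal.IsPrime.isMaximal_of_ne_bot hP.2 hP.1)

/-- Leading terms. -/
theorem leading {ξ : X} {π : X.presheaf.stalk ξ} (hπ : π ∈ maximalIdeal _) (hπ0 : π ≠ 0)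
    (u w : X.presheaf.stalk ξ) {φ α c : X.functionField} {n r : ℕ} (hr : 0 < r)
    (hα : α = algebraMap _ X.functionField u * algebraMap _ X.functionField π ^ (n : ℤ))
    (hφ : φ = algebraMap _ X.functionField w * algebraMap _ X.functionField π ^ (-(r : ℤ)))
    (hc : c ∈ O ξ) (N R : ℕ) :
    ∃ v : X.presheaf.stalk ξ, v - w ^ N * u ^ R ∈ maximalIdeal (X.presheaf.stalk ξ) ∧
      (φ + c) ^ N * α ^ R = algebraMap _ X.functionField v *
        algebraMap _ X.functionField π ^ ((R * n : ℤ) - r * N) := by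
  obtain ⟨s, rfl⟩ := hc
  refine ⟨(w + s * π ^ r) ^ N * u ^ R, ?_, ?_⟩
  · rw [← sub_mul]
    refine Ideal.mul_mem_right _ _ ?_
    refine Ideal.mem_of_dvd _ ?_ (Ideal.pow_mem_of_mem _ hπ r hr)
    have h := sub_dvd_pow_sub_pow (w + s * π ^ r) w N
    rw [add_sub_cancel_left] at h
    exact (dvd_mul_left _ _).trans h
  · have hp : algebraMap _ X.functionField π ≠ 0 :=
      (map_ne_zero_iff _ (algebraMap_injective ξ)).2 hπ0
    rw [hα, hφ]
    set p := algebraMap _ X.functionField π with hp'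
    have h1 : algebraMap _ X.functionField w * p ^ (-(r : ℤ)) + algebraMap _ X.functionField s =
        algebraMap _ X.functionField (w + s * π ^ r) * p ^ (-(r : ℤ)) := by
      rw [map_add, map_mul, map_pow, ← hp', add_mul, mul_assoc _ (p ^ r), ← zpow_natCast p r, ← zpow_add₀ hp,
        add_neg_cancel, zpow_zero, mul_one]
    rw [h1, mul_pow, mul_pow, mul_mul_mul_comm, ← zpow_natCast (p ^ (-(r : ℤ))) N,
      ← zpow_natCast (p ^ (n : ℤ)) R, ← zpow_mul, ← zpow_mul, ← zpow_add₀ hp, map_mul, map_pow, map_pow]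
    congr 2
    ring

variable {A : Type u} [CommRing A] [IsDomain A] [IsLocalRing A] [IsNoetherianRing A] [IsIntegrallyClosed A]

/-- Local principal parts that are regular off the closed fibre vanish. -/
theorem mem_O_of_fibre (hdim : ringKrullDim A = 2) (f : X ⟶ Spec (CommRingCat.of A)) [IsProper f]
    (hbir : ∃ U : (Spec (CommRingCat.of A)).Opens, (U : Set (Spec (CommRingCat.of A))).Nonempty ∧ IsIso (f ∣_ U))
    (hXn : Pi1.IsNormalScheme X) (φ : X → X.functionField)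
    (hφ : ∀ ξ x : X, ξ ⤳ x → φ ξ - φ x ∈ O ξ)
    (hout : ∀ x : X, (f x : PrimeSpectrum A) ≠ closedPoint A → φ x ∈ O x) (x : X) : φ x ∈ O x := by
  haveI : IsDomain (CommRingCat.of A) := ‹IsDomain A›
  haveI : IsNoetherianRing (CommRingCat.of A) := ‹IsNoetherianRing A›
  haveI : IsLocallyNoetherian X := LocallyOfFiniteType.isLocallyNoetherian f
  haveI : CompactSpace X := QuasiCompact.compactSpace_of_compactSpace f
  obtain ⟨U, hU, hiso⟩ := hbir
  haveI := hiso
  by_contra hx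
  let B : Set X := {ξ | ringKrullDim (X.presheaf.stalk ξ) ≤ 1 ∧ φ ξ ∉ O ξ}
  have hBne : B.Nonempty := by
    obtain ⟨ξ, h1, h2, h3⟩ := exists_height_le_one_of_notMem hXn hx
    exact ⟨ξ, h2, fun h => h3 (by simpa using (O ξ).sub_mem h (hφ ξ x h1))⟩
  have hBF : ∀ ξ ∈ B, (f ξ : PrimeSpectrum A) = closedPoint A := fun ξ hξ =>
    by_contra fun h => hξ.2 (hout ξ h)
  have hgen : (f (genericPoint X) : PrimeSpectrum A).asIdeal = ⊥ := by
    rw [H26.BiratFibre.apply_genericPoint_eq f hU, AlgebraicGeometry.genericPoint_eq_bot_of_affine]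
    rfl
  have hm2 : (maximalIdeal A).height = 2 := by
    have h := IsLocalRing.maximalIdeal_height_eq_ringKrullDim (R := A)
    rw [hdim] at h
    exact WithBot.coe_inj.mp h
  have hmbot : maximalIdeal A ≠ ⊥ := fun h => by
    rw [h, Ideal.height_bot] at hm2
    exact absurd hm2 (by simp)
  obtain ⟨a, ham, ha0⟩ := Submodule.exists_mem_ne_zero_of_ne_bot hmbot
  set α := toK f a with hαdef
  have hα0 : α ≠ 0 := toK_ne_zero f hgen ha0
  let Z : Set X := f ⁻¹' PrimeSpectrum.zeroLocus {a}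
  have hZc : IsClosed Z := (PrimeSpectrum.isClosed_zeroLocus _).preimage f.continuous
  have hZiff : ∀ y : X, y ∈ Z ↔ InMax y α := fun y => by
    rw [hαdef, inMax_toK_iff]
    exact Set.singleton_subset_iff
  have hZgen : genericPoint X ∉ Z := fun h => ha0 (by
    have h1 := (inMax_toK_iff f _ a).1 ((hZiff _).1 h)
    rwa [hgen, Ideal.mem_bot] at h1)
  let H : Set X := {ξ | ξ ∈ Z ∧ ringKrullDim (X.presheaf.stalk ξ) ≤ 1}
  have hHfin : H.Finite := finite_heightOne hZc hZgen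
  have hFZ : ∀ y : X, (f y : PrimeSpectrum A) = closedPoint A → y ∈ Z := fun y hy => by
    rw [hZiff, hαdef, inMax_toK_iff, hy]; exact ham
  have hBH : B ⊆ H := fun ξ hξ => ⟨hFZ ξ (hBF ξ hξ), hξ.1⟩
  have hBfin : B.Finite := hHfin.subset hBH
  -- orders
  have hdata : ∀ ξ : X, ξ ∈ B → ∃ (n r : ℕ) (π : X.presheaf.stalk ξ) (u w : (X.presheaf.stalk ξ)ˣ),
      π ∈ maximalIdeal _ ∧ π ≠ 0 ∧ 0 < n ∧ 0 < r ∧
      α = algebraMap _ X.functionField (u : X.presheaf.stalk ξ) * algebraMap _ X.functionField π ^ (n : ℤ) ∧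
      φ ξ = algebraMap _ X.functionField (w : X.presheaf.stalk ξ) * algebraMap _ X.functionField π ^ (-(r : ℤ)) := by
    intro ξ hξ
    haveI := isDVR hXn hξ.1 fun h => hZgen (h ▸ (hBH hξ).1)
    obtain ⟨π, hπ⟩ := IsDiscreteValuationRing.exists_irreducible (X.presheaf.stalk ξ)
    have hπm : π ∈ maximalIdeal (X.presheaf.stalk ξ) := hπ.not_isUnit
    obtain ⟨u, z, hu⟩ := exists_zpow hπ hα0
    obtain ⟨w, y, hw⟩ := exists_zpow hπ (c := φ ξ) fun h => hξ.2 (h ▸ (O ξ).zero_mem)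
    have hy : y < 0 := by
      by_contra! hy
      exact hξ.2 (hw ▸ mem_O_of_nonneg w hy)
    have hz : 0 < z := by
      by_contra! hz
      obtain ⟨s, hs, hsα⟩ := (hZiff ξ).1 (hBH hξ).1
      have hp : algebraMap _ X.functionField π ≠ 0 :=
        (map_ne_zero_iff _ (algebraMap_injective ξ)).2 hπ.ne_zero
      obtain ⟨k, rfl⟩ : ∃ k : ℕ, z = -(k : ℤ) := ⟨(-z).toNat, by omega⟩
      have h1 : s * π ^ k = u := algebraMap_injective ξ (by
        rw [map_mul, map_pow, hsα, hu, zpow_neg, zpow_natCast]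
        field_simp)
      exact (show s * π ^ k ∈ maximalIdeal (X.presheaf.stalk ξ) from Ideal.mul_mem_right _ _ hs)
        (h1 ▸ u.isUnit)
    obtain ⟨n, rfl⟩ : ∃ n : ℕ, z = (n : ℤ) := ⟨z.toNat, by omega⟩
    obtain ⟨r, rfl⟩ : ∃ r : ℕ, y = -(r : ℤ) := ⟨(-y).toNat, by omega⟩
    exact ⟨n, r, π, u, w, hπm, hπ.ne_zero, by omega, by omega, hu, hw⟩
  choose n r π u w hπm hπ0 hn hr hα hw using hdata
  obtain ⟨⟨ξ₀, hξ₀⟩, -, hmax⟩ := Finset.exists_max_image
    (@Finset.univ _ hBfin.fintype) (fun ξ : B => ((r ξ.1 ξ.2 : ℚ)) / n ξ.1 ξ.2)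
    ⟨⟨_, hBne.choose_spec⟩, @Finset.mem_univ _ hBfin.fintype _⟩
  set N := n ξ₀ hξ₀ with hNdef
  set R := r ξ₀ hξ₀ with hRdef
  have hmax' : ∀ ξ (hξ : ξ ∈ B), r ξ hξ * N ≤ R * n ξ hξ := fun ξ hξ => by
    have h := hmax ⟨ξ, hξ⟩ (@Finset.mem_univ _ hBfin.fintype _)
    rw [div_le_div_iff₀ (by exact_mod_cast hn ξ hξ) (by exact_mod_cast hn ξ₀ hξ₀)] at h
    exact_mod_cast h
  let ψ : X → X.functionField := fun y => φ y ^ N * α ^ R
  -- behaviour near a bad point
  have hbad : ∀ ξ (hξ : ξ ∈ B), ∀ y, ξ ⤳ y → ∃ v : X.presheaf.stalk ξ,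
      v - (w ξ hξ : X.presheaf.stalk ξ) ^ N * (u ξ hξ : X.presheaf.stalk ξ) ^ R ∈ maximalIdeal _ ∧
      ψ y = algebraMap _ X.functionField v *
        algebraMap _ X.functionField (π ξ hξ) ^ ((R * n ξ hξ : ℤ) - r ξ hξ * N) := fun ξ hξ y hy => by
    obtain ⟨v, h1, h2⟩ := leading (hπm ξ hξ) (hπ0 ξ hξ) _ _ (hr ξ hξ) (hα ξ hξ) (hw ξ hξ)
      ((O ξ).neg_mem (hφ ξ y hy)) N R
    exact ⟨v, h1, by rw [← h2]; show φ y ^ N * _ = _; congr 2; abel⟩
  have hgood : ∀ ξ, ξ ∉ B → ringKrullDim (X.presheaf.stalk ξ) ≤ 1 → ∀ y, ξ ⤳ y → φ y ∈ O ξ :=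
    fun ξ hξ h1 y hy => by
      have h : φ ξ ∈ O ξ := by_contra fun h => hξ ⟨h1, h⟩
      simpa using (O ξ).sub_mem h (hφ ξ y hy)
  have hψ : ∀ y, ψ y ∈ O y := by
    intro y
    by_contra hy
    obtain ⟨ξ, h1, h2, h3⟩ := exists_height_le_one_of_notMem hXn hy
    by_cases hξ : ξ ∈ B
    · obtain ⟨v, -, hv⟩ := hbad ξ hξ y h1
      refine h3 (hv ▸ ?_)
      have he : (0 : ℤ) ≤ (R * n ξ hξ : ℤ) - r ξ hξ * N := by
        have := hmax' ξ hξ
        rw [sub_nonneg]; exact_mod_cast this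
      obtain ⟨k, hk⟩ := Int.eq_ofNat_of_zero_le he
      exact ⟨v * π ξ hξ ^ k, by rw [hk, map_mul, map_pow, zpow_natCast]⟩
    · exact h3 ((O ξ).mul_mem ((O ξ).pow_mem (hgood ξ hξ h2 y h1) N) ((O ξ).pow_mem (toK_mem f ξ a) R))
  -- the maximisers and the other components
  let M : Set X := {ξ | ∃ hξ : ξ ∈ B, r ξ hξ * N = R * n ξ hξ}
  have hξ₀M : ξ₀ ∈ M := ⟨hξ₀, rfl⟩
  have hcover : ∀ y ∈ Z, ∃ η ∈ H, η ⤳ y := by
    intro y hy
    obtain ⟨s, hs, hsα⟩ := (hZiff y).1 hy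
    have hinv : α⁻¹ ∉ O y := by
      rintro ⟨d, hd⟩
      refine hs (IsUnit.of_mul_eq_one d (algebraMap_injective y ?_))
      rw [map_mul, hsα, hd, map_one, mul_inv_cancel₀ hα0]
    obtain ⟨η, h1, h2, h3⟩ := exists_height_le_one_of_notMem hXn hinv
    refine ⟨η, ⟨(hZiff η).2 ?_, h2⟩, h1⟩
    refine ⟨ι f η a, fun hu => h3 ?_, algebraMap_ι f η a⟩
    obtain ⟨e, he⟩ := hu
    refine ⟨((e⁻¹ : (X.presheaf.stalk η)ˣ) : X.presheaf.stalk η), eq_inv_of_mul_eq_one_left ?_⟩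
    rw [hαdef, ← algebraMap_ι f η a, ← he, ← map_mul, Units.inv_mul, map_one]
  let T₁ : Set X := ⋃ ξ ∈ M, closure {ξ}
  let T₂ : Set X := ⋃ η ∈ H \ M, closure {η}
  have hT₁ : IsClosed T₁ := (hBfin.subset fun ξ h => h.1).isClosed_biUnion fun _ _ => isClosed_closure
  have hT₂ : IsClosed T₂ := (hHfin.subset Set.diff_subset).isClosed_biUnion fun _ _ => isClosed_closure
  let F : Set X := f ⁻¹' {closedPoint A}
  haveI : IsIntegrallyClosed ((Spec (CommRingCat.of A)).presheaf.stalk (closedPoint A)) :=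
    IsIntegrallyClosed.of_equiv (stalkClosedPointIso (CommRingCat.of A)).symm.commRingCatIsoToRingEquiv
  have hFconn : _root_.IsConnected F := H26.BiratFibre.isConnected_preimage f hU (closedPoint A)
  obtain ⟨p, hpF, hp₁, hp₂⟩ := isPreconnected_closed_iff.1 hFconn.isPreconnected T₁ T₂ hT₁ hT₂
    (fun y hy => by
      obtain ⟨η, hη, hηy⟩ := hcover y (hFZ y hy)
      by_cases hM : η ∈ M
      · exact Or.inl (Set.mem_biUnion hM hηy.mem_closure)
      · exact Or.inr (Set.mem_biUnion (⟨hη, hM⟩ : η ∈ H \ M) hηy.mem_closure))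
    ⟨ξ₀, hBF ξ₀ hξ₀, Set.mem_biUnion hξ₀M (subset_closure rfl)⟩
    (by
      obtain ⟨q, hq, -⟩ := Ideal.exists_minimalPrimes_le (J := maximalIdeal A)
        (show Ideal.span {a} ≤ maximalIdeal A from (Ideal.span_singleton_le_iff_mem _).2 ham)
      haveI : q.IsPrime := hq.1.1
      have hqm : q ≠ maximalIdeal A := fun e => by
        have := Ideal.height_le_one_of_isPrincipal_of_mem_minimalPrimes (Ideal.span {a}) q hq
        rw [e, hm2] at this
        exact absurd this (by norm_num)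
      obtain ⟨y, hy⟩ := H26.BiratFibre.surjective f hU (⟨q, inferInstance⟩ : PrimeSpectrum A)
      obtain ⟨η, hη, hηy⟩ := hcover y ((hZiff y).2 ((inMax_toK_iff f y a).2 (by
        rw [hy]; exact hq.1.2 (Ideal.subset_span rfl))))
      have hle : (f η : PrimeSpectrum A).asIdeal ≤ q := by
        have h1 : (PrimeSpectrum.asIdeal (f η)) ≤ (PrimeSpectrum.asIdeal (f y)) :=
          (PrimeSpectrum.le_iff_specializes _ _).2 (hηy.map f.continuous)
        rwa [hy] at h1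
      have hηq : (f η : PrimeSpectrum A).asIdeal = q := le_antisymm hle (hq.2
        ⟨(f η : PrimeSpectrum A).isPrime, (Ideal.span_singleton_le_iff_mem _).2
          ((inMax_toK_iff f η a).1 ((hZiff η).1 hη.1))⟩ hle)
      have hηM : η ∉ M := fun h => hqm (by rw [← hηq, hBF η h.1]; rfl)
      obtain ⟨z, hz, hzc⟩ : closedPoint A ∈ f '' closure {η} :=
        (IsLocalRing.specializes_closedPoint (f η : PrimeSpectrum A)).mem_closed
          (f.isClosedMap _ isClosed_closure) ⟨η, subset_closure rfl, rfl⟩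
      exact ⟨z, hzc, Set.mem_biUnion (⟨hη, hηM⟩ : η ∈ H \ M) hz⟩)
  obtain ⟨ξ, hξM, hξp⟩ := Set.mem_iUnion₂.1 hp₁
  obtain ⟨η, hηHM, hηp⟩ := Set.mem_iUnion₂.1 hp₂
  replace hξp : ξ ⤳ p := specializes_iff_mem_closure.2 hξp
  replace hηp : η ⤳ p := specializes_iff_mem_closure.2 hηp
  obtain ⟨hξ, hξeq⟩ := hξM
  obtain ⟨s, hs⟩ := hψ p
  -- the value at `p` lies in the maximal ideal
  have hsm : s ∈ maximalIdeal (X.presheaf.stalk p) := by
    refine InMax.of_specializes hηp ?_ hs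
    by_cases hη : η ∈ B
    · obtain ⟨v, -, hv⟩ := hbad η hη p hηp
      rw [hv]
      refine inMax_of_pos (hπm η hη) _ (sub_pos.2 ?_)
      have h1 := lt_of_le_of_ne (hmax' η hη) fun e => hηHM.2 ⟨hη, e⟩
      exact_mod_cast h1
    · obtain ⟨t, ht⟩ := hgood η hη hηHM.1.2 p hηp
      refine ⟨t ^ N * ι f η a ^ R, Ideal.mul_mem_left _ _ (Ideal.pow_mem_of_mem _
        ((mem_point_iff f η a).1 ((inMax_toK_iff f η a).1 ((hZiff η).1 hηHM.1.1))) R (hr ξ₀ hξ₀)), ?_⟩
      rw [map_mul, map_pow, map_pow, ht, algebraMap_ι]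
  let j := resMap f ξ
  let ev : ∀ y, ξ ⤳ y → (X.presheaf.stalk y →+* X.residueField ξ) := fun y hy =>
    (X.residue ξ).hom.comp (X.presheaf.stalkSpecializes hy).hom
  set g₀ : X.residueField ξ :=
    (X.residue ξ).hom ((w ξ hξ : X.presheaf.stalk ξ) ^ N * (u ξ hξ : X.presheaf.stalk ξ) ^ R) with hg₀
  have hval : ∀ y (hy : ξ ⤳ y) (t : X.presheaf.stalk y), algebraMap _ X.functionField t = ψ y →
      ev y hy t = g₀ := fun y hy t ht => by
    obtain ⟨v, hv1, hv2⟩ := hbad ξ hξ y hy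
    have he : (R * n ξ hξ : ℤ) - r ξ hξ * N = 0 := by
      rw [sub_eq_zero]; exact_mod_cast hξeq.symm
    rw [he, zpow_zero, mul_one, ← ht, ← algebraMap_specializes hy] at hv2
    show (X.residue ξ).hom ((X.presheaf.stalkSpecializes hy).hom t) = g₀
    rw [algebraMap_injective ξ hv2, hg₀, ← sub_eq_zero, ← map_sub]
    exact (IsLocalRing.residue_eq_zero_iff _).2 hv1
  have hg0 : g₀ ≠ 0 := by
    intro h
    exact (IsLocalRing.residue_eq_zero_iff _).1 h
      (((w ξ hξ).isUnit.pow N).mul ((u ξ hξ).isUnit.pow R))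
  obtain ⟨P, hPm, hP⟩ := exists_monic_of_forall_valuationSubring j (g := g₀) fun V hV => by
    obtain ⟨y, hy, hyV⟩ := exists_center f ξ V hV
    obtain ⟨t, ht⟩ := hψ y
    rw [← hval y hy t ht]
    exact hyV t
  obtain ⟨c, q, hc, hcq⟩ := exists_unit_const j (fun b hb => (resMap_eq_zero_iff f ξ b).2 (by
      rw [hBF ξ hξ]; exact hb)) hg0 P.natDegree P (by rw [hPm.coeff_natDegree]; exact isUnit_one) hP
  have hcomp : (ev p hξp).comp (ι f p) = j := RingHom.ext fun b =>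
    congrArg (X.residue ξ).hom (ι_specializes f hξp b)
  have hE : IsUnit (ι f p c + s * q.eval₂ (ι f p) s) := by
    by_contra hne
    have h1 : ι f p c ∈ maximalIdeal (X.presheaf.stalk p) := by
      simpa using Ideal.sub_mem _ ((IsLocalRing.mem_maximalIdeal _).2 hne)
        (Ideal.mul_mem_right (q.eval₂ (ι f p) s) _ hsm)
    exact h1 (hc.map _)
  have h0 := hE.map (ev p hξp)
  rw [map_add, map_mul, Polynomial.hom_eval₂, hcomp, hval p hξp s hs,
    show ev p hξp (ι f p c) = j c from RingHom.congr_fun hcomp c, hcq] at h0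
  exact not_isUnit_zero h0

end Groth.Agent.FibrePP
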